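import Groth.Agent.DvrDom.Generic
import Groth.Agent.RedSepLib.Basic

/-!
# Properness at a point of a closed subset
-/

universe u

open CategoryTheory AlgebraicGeometry IsLocalRing

namespace Groth.Agent.DvrDom

variable {X Y : Scheme.{u}}

theorem isReduced_vanishingIdeal_subscheme (C : TopologicalSpace.Closeds X) :
    IsReduced (Scheme.IdealSheafData.vanishingIdeal C).subscheme := by
  apply +allowSynthFailures @IsReduced.of_openCover
    (𝒰 := (Scheme.IdealSheafData.vanishingIdeal C).subschemeCover.openCover)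
  intro U
  have : _root_.IsReduced (Γ(X, U.1) ⧸ (Scheme.IdealSheafData.vanishingIdeal C).ideal U) := by
    rw [← Ideal.isRadical_iff_quotient_reduced, Scheme.IdealSheafData.vanishingIdeal_ideal]
    exact PrimeSpectrum.isRadical_vanishingIdeal _
  exact inferInstanceAs (IsReduced
    (Spec (CommRingCat.of (Γ(X, U.1) ⧸ (Scheme.IdealSheafData.vanishingIdeal C).ideal U))))

theorem range_vanishingIdeal_subschemeι (C : TopologicalSpace.Closeds X) :
    Set.range (Scheme.IdealSheafData.vanishingIdeal C).subschemeι = (C : Set X) := by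
  rw [Scheme.IdealSheafData.range_subschemeι, Scheme.IdealSheafData.coe_support_vanishingIdeal]

/-- Every point of a closed set is a specialisation of a maximal point of it. -/
theorem exists_maximal_generisation (C : TopologicalSpace.Closeds X) {x : X} (hx : x ∈ C) :
    ∃ ξ ∈ C, ξ ⤳ x ∧ ∀ z ∈ C, ξ ∈ closure {z} → z = ξ := by
  let i := (Scheme.IdealSheafData.vanishingIdeal C).subschemeι
  have hemb : Topology.IsEmbedding i := i.isClosedEmbedding.isEmbedding
  obtain ⟨x', rfl⟩ : x ∈ Set.range i := by rw [range_vanishingIdeal_subschemeι]; exact hx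
  let hT := isIrreducible_irreducibleComponent (x := x')
  have hgen := hT.isGenericPoint_genericPoint isClosed_irreducibleComponent
  refine ⟨i hT.genericPoint, by rw [← SetLike.mem_coe, ← range_vanishingIdeal_subschemeι C]; exact ⟨_, rfl⟩,
    (hgen.specializes mem_irreducibleComponent).map i.continuous, fun z hz hsp ↦ ?_⟩
  obtain ⟨z', rfl⟩ : z ∈ Set.range i := by rw [range_vanishingIdeal_subschemeι]; exact hz
  have hsp' : z' ⤳ hT.genericPoint :=
    hemb.isInducing.specializes_iff.mp (specializes_iff_mem_closure.mpr hsp)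
  have hle : irreducibleComponent x' ⊆ closure {z'} := fun w hw ↦
    specializes_iff_mem_closure.mp (hsp'.trans (hgen.specializes hw))
  have heq := eq_irreducibleComponent isIrreducible_singleton.closure.2 hle
  have : IsGenericPoint z' (irreducibleComponent x') := heq
  exact congrArg i (IsGenericPoint.eq this hgen)

variable (f : X ⟶ Y) [IsSeparated f] [LocallyOfFiniteType f] [QuasiCompact f]

/-- A closed subset all whose maximal points satisfy the valuative criterion at `y` is proper at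
`y`. -/
theorem exists_nhd_isProper_closed (C : TopologicalSpace.Closeds X) (y : Y)
    (H : ∀ ξ ∈ C, (∀ z ∈ C, ξ ∈ closure {z} → z = ξ) → Lifts f ξ y) :
    ∃ U : Y.Opens, y ∈ U ∧ ∀ hC : IsClosed ((f ⁻¹ᵁ U).ι ⁻¹' (C : Set X)),
      IsProper ((Scheme.IdealSheafData.vanishingIdeal
        (⟨(f ⁻¹ᵁ U).ι ⁻¹' (C : Set X), hC⟩ :
          TopologicalSpace.Closeds ↥(f ⁻¹ᵁ U).toScheme)).subschemeι ≫ (f ∣_ U)) := by
  let i := (Scheme.IdealSheafData.vanishingIdeal C).subschemeι
  have hri : Set.range i = (C : Set X) := range_vanishingIdeal_subschemeι C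
  have hsq : ∀ S : ValuativeCommSq (i ≫ f), S.i₂ (closedPoint S.R) ⤳ y → S.commSq.HasLift := by
    intro S hS
    let S' : ValuativeCommSq f := ⟨S.R, S.K, S.i₁ ≫ i, S.i₂, ⟨by rw [Category.assoc]; exact S.commSq.w⟩⟩
    have hL : S'.commSq.HasLift := exists_lift_square' f S' fun x₀ hx₀ h V hV hm ↦ by
      have hx₀C : x₀ ∈ C := by
        rw [hx₀, ← SetLike.mem_coe, ← hri]
        exact ⟨_, (Scheme.Hom.comp_apply _ _ _).symm⟩
      obtain ⟨ξ, hξC, hξx, hξmax⟩ := exists_maximal_generisation C hx₀C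
      exact ((H ξ hξC hξmax).of_generisation f hξx).of_specializes f hS h V hV hm
    obtain ⟨⟨l, h1, h2⟩⟩ := hL.exists_lift
    have hl : Set.range l ⊆ Set.range i := by
      rw [hri]
      rintro _ ⟨q, rfl⟩
      let pt : Spec (CommRingCat.of S.K) := closedPoint S.K
      let η : Spec (CommRingCat.of S.R) := Spec.map (CommRingCat.ofHom (algebraMap S.R S.K)) pt
      have hη : η ⤳ q := by
        refine (PrimeSpectrum.le_iff_specializes _ _).mp ?_
        have : η.asIdeal = ⊥ := by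
          show (maximalIdeal S.K).comap (algebraMap S.R S.K) = ⊥
          rw [IsLocalRing.maximalIdeal_eq_bot, ← RingHom.ker_eq_comap_bot,
            (RingHom.injective_iff_ker_eq_bot _).mp (IsFractionRing.injective S.R S.K)]
        show η.asIdeal ≤ q.asIdeal
        rw [this]; exact bot_le
      have hlη : l η ∈ Set.range i := by
        have := congr($(h1) pt)
        rw [Scheme.Hom.comp_apply] at this
        exact ⟨S.i₁ pt, ((Scheme.Hom.comp_apply _ _ _).symm.trans this.symm : _)⟩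
      exact (hη.map l.continuous).mem_closed C.isClosed (hri ▸ hlη)
    obtain ⟨l', hl'⟩ := RedSepLib.exists_lift_of_isReduced l i hl
    refine ⟨⟨⟨l', ?_, ?_⟩⟩⟩
    · rw [← cancel_mono i, Category.assoc, hl']; exact h1
    · rw [← Category.assoc, hl']; exact h2
  obtain ⟨U, hyU, hU⟩ := exists_nhd_universallyClosed (i ≫ f) y hsq
  refine ⟨U, hyU, fun hC ↦ ?_⟩
  let w := (Scheme.IdealSheafData.vanishingIdeal
    (⟨(f ⁻¹ᵁ U).ι ⁻¹' (C : Set X), hC⟩ : TopologicalSpace.Closeds ↥(f ⁻¹ᵁ U).toScheme)).subschemeι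
  have hw : Set.range w = (f ⁻¹ᵁ U).ι ⁻¹' (C : Set X) := range_vanishingIdeal_subschemeι _
  have := isReduced_vanishingIdeal_subscheme
    (⟨(f ⁻¹ᵁ U).ι ⁻¹' (C : Set X), hC⟩ : TopologicalSpace.Closeds ↥(f ⁻¹ᵁ U).toScheme)
  obtain ⟨j, hj⟩ := RedSepLib.exists_lift_of_isReduced (w ≫ (f ⁻¹ᵁ U).ι) i (by
    rw [hri]
    rintro _ ⟨p, rfl⟩
    rw [Scheme.Hom.comp_apply]
    exact (Set.ext_iff.mp hw (w p)).mp ⟨p, rfl⟩)
  have hjr : Set.range j ⊆ Set.range (i ⁻¹ᵁ (f ⁻¹ᵁ U)).ι := by
    rw [Scheme.Opens.range_ι]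
    rintro _ ⟨p, rfl⟩
    show i (j p) ∈ f ⁻¹ᵁ U
    rw [← Scheme.Hom.comp_apply, hj, Scheme.Hom.comp_apply]
    exact (w p).2
  let j' := IsOpenImmersion.lift (i ⁻¹ᵁ (f ⁻¹ᵁ U)).ι j hjr
  have hfac : j' ≫ (i ∣_ (f ⁻¹ᵁ U)) = w := by
    rw [← cancel_mono (f ⁻¹ᵁ U).ι, Category.assoc, morphismRestrict_ι]
    exact (IsOpenImmersion.lift_fac_assoc _ _ _ _).trans hj
  have : IsClosedImmersion (j' ≫ (i ∣_ (f ⁻¹ᵁ U))) := hfac ▸ inferInstance
  have : IsClosedImmersion j' := IsClosedImmersion.of_comp j' (i ∣_ (f ⁻¹ᵁ U))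
  have hp : IsProper ((i ≫ f) ∣_ U) := ⟨⟩
  have : w ≫ (f ∣_ U) = j' ≫ ((i ≫ f) ∣_ U) := by
    rw [morphismRestrict_comp, ← hfac, Category.assoc]
  show IsProper (w ≫ (f ∣_ U))
  rw [this]
  exact MorphismProperty.comp_mem (W := (@IsProper : MorphismProperty Scheme.{u})) _ _
    (inferInstanceAs (IsProper j')) hp

end Groth.Agent.DvrDom
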