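import Mathlib.RingTheory.Valuation.ValuationSubring
import Mathlib.Order.Filter.Ultrafilter.Basic
import Mathlib.RingTheory.Ideal.Quotient.Basic
import Mathlib.RingTheory.Ideal.Maximal

/-!
# Ultraproducts of fields and of valuation subrings
-/

universe u

namespace Groth.Agent.DvrDom.UProd

open Filter

variable {I : Type u} (F : Ultrafilter I) (K : I → Type u) [∀ i, Field (K i)]

/-- Eventually vanishing families. -/
def nullIdeal : Ideal (∀ i, K i) where
  carrier := {f | ∀ᶠ i in (F : Filter I), f i = 0}
  zero_mem' := Eventually.of_forall fun _ ↦ rfl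
  add_mem' hf hg := by
    filter_upwards [hf, hg] with i h1 h2
    simp [h1, h2]
  smul_mem' c f hf := by
    filter_upwards [hf] with i h1
    simp [h1]

instance : (nullIdeal F K).IsMaximal := by
  rw [Ideal.isMaximal_iff]
  refine ⟨?_, ?_⟩
  · intro h
    obtain ⟨i, hi⟩ := (show ∀ᶠ i in (F : Filter I), (1 : K i) = 0 from h).exists
    exact one_ne_zero hi
  · intro J f hle hf hfJ
    classical
    have h1 : ∀ᶠ i in (F : Filter I), f i ≠ 0 := Ultrafilter.eventually_not.mpr hf
    let g : ∀ i, K i := fun i ↦ (f i)⁻¹
    have h2 : 1 - g * f ∈ nullIdeal F K := by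
      filter_upwards [h1] with i hi
      simp [g, inv_mul_cancel₀ hi]
    have := J.add_mem (hle h2) (J.mul_mem_left g hfJ)
    simpa using this

/-- The ultraproduct. -/
abbrev Prod : Type u := (∀ i, K i) ⧸ nullIdeal F K

noncomputable instance : Field (Prod F K) := Ideal.Quotient.field _

/-- Class of a family. -/
abbrev mk : (∀ i, K i) →+* Prod F K := Ideal.Quotient.mk _

theorem mk_eq_iff {f g : ∀ i, K i} : mk F K f = mk F K g ↔ ∀ᶠ i in (F : Filter I), f i = g i := by
  rw [Ideal.Quotient.eq]
  show (∀ᶠ i in (F : Filter I), (f - g) i = 0) ↔ _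
  simp only [Pi.sub_apply, sub_eq_zero]

variable (V : ∀ i, ValuationSubring (K i))

/-- Families lying everywhere in the valuation subrings. -/
def piSubring : Subring (∀ i, K i) where
  carrier := {f | ∀ i, f i ∈ V i}
  zero_mem' i := (V i).zero_mem
  one_mem' i := (V i).one_mem
  add_mem' hf hg i := add_mem (hf i) (hg i)
  mul_mem' hf hg i := mul_mem (hf i) (hg i)
  neg_mem' hf i := neg_mem (hf i)

/-- The ultraproduct of valuation subrings. -/
noncomputable def valSubring : ValuationSubring (Prod F K) where
  toSubring := (piSubring K V).map (mk F K)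
  mem_or_inv_mem' x := by
    classical
    obtain ⟨f, rfl⟩ := Ideal.Quotient.mk_surjective x
    have h : ∀ᶠ i in (F : Filter I), f i ∈ V i ∨ (f i)⁻¹ ∈ V i :=
      Eventually.of_forall fun i ↦ (V i).mem_or_inv_mem (f i)
    rcases Ultrafilter.eventually_or.mp h with h | h
    · refine Or.inl ⟨fun i ↦ if f i ∈ V i then f i else 0, fun i ↦ ?_, ?_⟩
      · dsimp only; split
        · assumption
        · exact (V i).zero_mem
      · refine (mk_eq_iff F K).mpr ?_
        filter_upwards [h] with i hi
        simp [hi]
    · refine Or.inr ⟨fun i ↦ if (f i)⁻¹ ∈ V i then (f i)⁻¹ else 0, fun i ↦ ?_, ?_⟩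
      · dsimp only; split
        · assumption
        · exact (V i).zero_mem
      · show mk F K _ = (mk F K f)⁻¹
        by_cases hf : mk F K f = 0
        · rw [hf, inv_zero, ← map_zero (mk F K)]
          refine (mk_eq_iff F K).mpr ?_
          rw [← map_zero (mk F K), mk_eq_iff] at hf
          filter_upwards [hf] with i hi
          simp [hi]
        · refine eq_inv_of_mul_eq_one_left ?_
          rw [← map_mul, ← map_one (mk F K), mk_eq_iff]
          have hf' : ∀ᶠ i in (F : Filter I), f i ≠ 0 := by
            rw [← map_zero (mk F K), mk_eq_iff] at hf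
            exact Ultrafilter.eventually_not.mpr hf
          filter_upwards [h, hf'] with i hi hi'
          simp [hi, inv_mul_cancel₀ hi']

theorem mk_mem_valSubring_iff {f : ∀ i, K i} :
    mk F K f ∈ valSubring F K V ↔ ∀ᶠ i in (F : Filter I), f i ∈ V i := by
  constructor
  · rintro ⟨g, hg, hgf⟩
    filter_upwards [(mk_eq_iff F K).mp hgf] with i hi
    exact hi ▸ hg i
  · intro h
    classical
    refine ⟨fun i ↦ if f i ∈ V i then f i else 0, fun i ↦ ?_, ?_⟩
    · dsimp only; split
      · assumption
      · exact (V i).zero_mem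
    · refine (mk_eq_iff F K).mpr ?_
      filter_upwards [h] with i hi
      simp [hi]

/-- Ring maps defined eventually assemble to one into the ultraproduct. -/
noncomputable def assemble {B : Type u} [CommRing B] (p : I → Prop)
    (hp : ∀ᶠ i in (F : Filter I), p i) (φ : ∀ i, p i → (B →+* K i)) : B →+* Prod F K := by
  classical
  exact
  { toFun := fun b ↦ mk F K fun i ↦ if h : p i then φ i h b else 0
    map_one' := by
      rw [← map_one (mk F K), mk_eq_iff]
      filter_upwards [hp] with i hi
      simp [hi]
    map_mul' := fun a b ↦ by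
      rw [← map_mul, mk_eq_iff]
      filter_upwards [hp] with i hi
      simp [hi]
    map_zero' := by
      rw [← map_zero (mk F K), mk_eq_iff]
      filter_upwards [hp] with i hi
      simp [hi]
    map_add' := fun a b ↦ by
      rw [← map_add, mk_eq_iff]
      filter_upwards [hp] with i hi
      simp [hi] }

theorem assemble_apply {B : Type u} [CommRing B] (p : I → Prop)
    (hp : ∀ᶠ i in (F : Filter I), p i) (φ : ∀ i, p i → (B →+* K i)) (b : B) (f : ∀ i, K i)
    (hf : ∀ᶠ i in (F : Filter I), ∀ h : p i, φ i h b = f i) :
    assemble F K p hp φ b = mk F K f := by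
  refine (mk_eq_iff F K).mpr ?_
  filter_upwards [hp, hf] with i hi hi'
  simp [hi, hi' hi]

end Groth.Agent.DvrDom.UProd
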