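import Groth.Agent.DvrDom.Composite
import Groth.Agent.DvrDom.UProd

/-!
# The valuative criterion spreads out to an open neighbourhood
-/

universe u

open CategoryTheory AlgebraicGeometry IsLocalRing Filter Opposite

namespace Groth.Agent.DvrDom

variable {X : Scheme.{u}}

/-- The ring map attached to a morphism from an affine scheme into an affine open. -/
noncomputable def pointHom {U : X.Opens} (hU : IsAffineOpen U) {L : Type u} [CommRing L]
    (p : Spec (CommRingCat.of L) ⟶ X) (hp : Set.range p ⊆ (U : Set X)) :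
    Γ(X, U) ⟶ CommRingCat.of L :=
  Spec.preimage (IsOpenImmersion.lift hU.fromSpec p (by rwa [hU.range_fromSpec]))

theorem SpecMap_pointHom {U : X.Opens} (hU : IsAffineOpen U) {L : Type u} [CommRing L]
    (p : Spec (CommRingCat.of L) ⟶ X) (hp : Set.range p ⊆ (U : Set X)) :
    Spec.map (pointHom hU p hp) ≫ hU.fromSpec = p := by
  rw [pointHom, Spec.map_preimage, IsOpenImmersion.lift_fac]

theorem pointHom_ext {U : X.Opens} (hU : IsAffineOpen U) {L : Type u} [CommRing L]
    {φ ψ : Γ(X, U) ⟶ CommRingCat.of L}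
    (h : Spec.map φ ≫ hU.fromSpec = Spec.map ψ ≫ hU.fromSpec) : φ = ψ :=
  Spec.map_injective ((cancel_mono hU.fromSpec).mp h)

theorem pointHom_map {U D : X.Opens} (hU : IsAffineOpen U) (hD : IsAffineOpen D) (hle : D ≤ U)
    {L : Type u} [CommRing L] (p : Spec (CommRingCat.of L) ⟶ X)
    (hp : Set.range p ⊆ (D : Set X)) :
    X.presheaf.map (homOfLE hle).op ≫ pointHom hD p hp =
      pointHom hU p (hp.trans hle) := by
  apply pointHom_ext hU
  rw [Spec.map_comp, Category.assoc, hU.map_fromSpec hD, SpecMap_pointHom, SpecMap_pointHom]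

theorem mem_basicOpen_iff_pointHom {U : X.Opens} (hU : IsAffineOpen U) {L : Type u} [Field L]
    (p : Spec (CommRingCat.of L) ⟶ X) (hp : Set.range p ⊆ (U : Set X)) (g : Γ(X, U)) :
    p (closedPoint L) ∈ X.basicOpen g ↔ (pointHom hU p hp).hom g ≠ 0 := by
  conv_lhs => rw [← SpecMap_pointHom hU p hp, Scheme.Hom.comp_apply]
  show Spec.map (pointHom hU p hp) (closedPoint L) ∈ hU.fromSpec ⁻¹ᵁ X.basicOpen g ↔ _
  rw [hU.fromSpec_preimage_basicOpen]
  show (pointHom hU p hp).hom g ∉ maximalIdeal L ↔ _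
  rw [IsLocalRing.maximalIdeal_eq_bot, Ideal.mem_bot]

theorem range_subset_of_closedPoint_mem {R : Type u} [CommRing R] [IsLocalRing R] {U : X.Opens}
    (p : Spec (CommRingCat.of R) ⟶ X) (h : p (closedPoint R) ∈ U) :
    Set.range p ⊆ (U : Set X) := by
  rintro _ ⟨q, rfl⟩
  exact ((specializes_closedPoint q).map p.continuous).mem_open U.2 h

variable {Y : Scheme.{u}} (f : X ⟶ Y) [LocallyOfFiniteType f] [QuasiCompact f]

/-- If every valuative square centred at a generisation of `y` lifts, then every valuative square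
centred in some open neighbourhood of `y` lifts. -/
theorem exists_nhd_hasLift (y : Y)
    (H : ∀ S : ValuativeCommSq f, S.i₂ (closedPoint S.R) ⤳ y → S.commSq.HasLift) :
    ∃ U : Y.Opens, y ∈ U ∧
      ∀ S : ValuativeCommSq f, S.i₂ (closedPoint S.R) ∈ U → S.commSq.HasLift := by
  classical
  obtain ⟨SA, hSA, hyA, -⟩ := Y.isBasis_affineOpens.exists_subset_of_mem_open
    (Set.mem_univ y) isOpen_univ
  obtain ⟨A, hA, rfl⟩ : ∃ U : Y.Opens, IsAffineOpen U ∧ (U : Set Y) = SA := hSA
  let I : Type u := {s : Γ(Y, A) // y ∈ Y.basicOpen s}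
  by_contra hcon
  push Not at hcon
  choose S hS hSno using fun s : I ↦ hcon (Y.basicOpen s.1) s.2
  -- the ultrafilter
  let T : I → Set I := fun s ↦ {t | (S t).i₂ (closedPoint (S t).R) ∈ Y.basicOpen s.1}
  have hI : Nonempty I := ⟨⟨1, by rw [Scheme.basicOpen_of_isUnit _ isUnit_one]; exact hyA⟩⟩
  have hne : (⨅ s, 𝓟 (T s)).NeBot := by
    refine iInf_neBot_of_directed ?_ fun s ↦ ?_
    · intro a b
      refine ⟨⟨a.1 * b.1, by rw [Scheme.basicOpen_mul]; exact ⟨a.2, b.2⟩⟩,
        principal_mono.mpr ?_, principal_mono.mpr ?_⟩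
      all_goals
        intro t ht
        simp only [T, Set.mem_setOf_eq, Scheme.basicOpen_mul] at ht ⊢
        first | exact ht.1 | exact ht.2
    · exact principal_neBot_iff.mpr ⟨s, hS s⟩
  let F : Ultrafilter I := Ultrafilter.of (⨅ s, 𝓟 (T s))
  have hF : ∀ s : I, ∀ᶠ t in (F : Filter I), (S t).i₂ (closedPoint (S t).R) ∈ Y.basicOpen s.1 := fun s ↦
    Ultrafilter.of_le _ (mem_iInf_of_mem s (mem_principal_self _))
  -- the data on `A`
  have hcA : ∀ t, (S t).i₂ (closedPoint (S t).R) ∈ A := fun t ↦ Y.basicOpen_le _ (hS t)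
  let ρ : ∀ t, Γ(Y, A) ⟶ CommRingCat.of (S t).R := fun t ↦
    pointHom hA (S t).i₂ (range_subset_of_closedPoint_mem _ (hcA t))
  let K : I → Type u := fun t ↦ (S t).K
  let instK : ∀ t, Field (K t) := fun t ↦ (S t).field
  let V : ∀ t, ValuationSubring (K t) := fun t ↦
    ⟨(algebraMap (S t).R (S t).K).range, ValuationRing.isInteger_or_isInteger (S t).R⟩
  let Vs := UProd.valSubring F K V
  have hxA : ∀ t, f ((S t).i₁ (closedPoint (S t).K)) ∈ A := fun t ↦ by
    rw [← Scheme.Hom.comp_apply, (S t).commSq.w, Scheme.Hom.comp_apply]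
    exact range_subset_of_closedPoint_mem _ (hcA t) ⟨_, rfl⟩
  -- a finite cover by charts
  have hcpt : IsCompact ((f ⁻¹ᵁ A : X.Opens) : Set X) :=
    QuasiCompact.isCompact_preimage _ A.2 hA.isCompact
  have hch : ∀ x : (f ⁻¹ᵁ A : X.Opens), ∃ U : X.Opens, IsAffineOpen U ∧ (x : X) ∈ U ∧ U ≤ f ⁻¹ᵁ A := by
    intro x
    obtain ⟨SU, hSU, h1, h2⟩ := X.isBasis_affineOpens.exists_subset_of_mem_open x.2 (f ⁻¹ᵁ A).2
    obtain ⟨U, hU, rfl⟩ : ∃ U : X.Opens, IsAffineOpen U ∧ (U : Set X) = SU := hSU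
    exact ⟨U, hU, h1, h2⟩
  choose U hU hxU hUA using hch
  obtain ⟨cov, hcov⟩ := hcpt.elim_finite_subcover (fun x ↦ (U x : Set X)) (fun x ↦ (U x).2)
    (fun x hx ↦ Set.mem_iUnion.mpr ⟨⟨x, hx⟩, hxU ⟨x, hx⟩⟩)
  let px : I → _ → Prop := fun t j ↦ (S t).i₁ (closedPoint (S t).K) ∈ U j
  obtain ⟨j, -, hj⟩ : ∃ j ∈ (cov : Set _), ∀ᶠ t in (F : Filter I), px t j := by
    refine (Ultrafilter.eventually_exists_mem_iff (f := F) (P := fun j t ↦ px t j)
      cov.finite_toSet).mp (Eventually.of_forall fun t ↦ ?_)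
    simpa [px] using hcov (hxA t)
  have hrK : ∀ t j, px t j → Set.range (S t).i₁ ⊆ (U j : Set X) := fun t j h ↦
    range_subset_of_closedPoint_mem _ h
  let η : ∀ t j, px t j → (Γ(X, U j) →+* K t) := fun t j h ↦
    (pointHom (hU j) (S t).i₁ (hrK t j h)).hom
  have hη : ∀ t j (h : px t j) a,
      η t j h ((f.appLE A (U j) (hUA j)).hom a) = algebraMap (S t).R (S t).K ((ρ t).hom a) := by
    intro t j h a
    have : f.appLE A (U j) (hUA j) ≫ pointHom (hU j) (S t).i₁ (hrK t j h) =
        ρ t ≫ CommRingCat.ofHom (algebraMap (S t).R (S t).K) := by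
      apply pointHom_ext hA
      rw [Spec.map_comp, Category.assoc, IsAffineOpen.SpecMap_appLE_fromSpec f hA (hU j) (hUA j),
        ← Category.assoc, SpecMap_pointHom, Spec.map_comp, Category.assoc, SpecMap_pointHom]
      exact (S t).commSq.w
    exact congr($(this).hom a)
  let φ : Γ(X, U j) →+* UProd.Prod F K := UProd.assemble F K (px · j) hj fun t h ↦ η t j h
  -- the centre
  have hρmem : ∀ a, UProd.mk F K (fun t ↦ algebraMap (S t).R (S t).K ((ρ t).hom a)) ∈ Vs := fun a ↦
    (UProd.mk_mem_valSubring_iff F K V).mpr (Eventually.of_forall fun t ↦ ⟨_, rfl⟩)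
  let ρs : Γ(Y, A) →+* Vs := ((UProd.mk F K).comp
    (RingHom.pi fun t ↦ (algebraMap (S t).R (S t).K).comp (ρ t).hom)).codRestrict Vs.toSubring hρmem
  let S₀ : ValuativeCommSq f :=
    { R := Vs
      K := UProd.Prod F K
      i₁ := Spec.map (CommRingCat.ofHom φ) ≫ (hU j).fromSpec
      i₂ := Spec.map (CommRingCat.ofHom ρs) ≫ hA.fromSpec
      commSq := ⟨by
        rw [Category.assoc, ← IsAffineOpen.SpecMap_appLE_fromSpec f hA (hU j) (hUA j),
          ← Spec.map_comp_assoc, ← Spec.map_comp_assoc]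
        refine congrArg (fun ψ ↦ Spec.map ψ ≫ hA.fromSpec) ?_
        ext a
        exact UProd.assemble_apply F K _ hj _ _ _ (Eventually.of_forall fun t h ↦ hη t j h a)⟩ }
  have hunit : ∀ a, y ∈ Y.basicOpen a → IsUnit (ρs a) := by
    intro a ha
    have h1 : ∀ᶠ t in (F : Filter I), IsUnit ((ρ t).hom a) := by
      filter_upwards [hF ⟨a, ha⟩] with t ht
      rw [← SpecMap_pointHom hA (S t).i₂ (range_subset_of_closedPoint_mem _ (hcA t)),
        Scheme.Hom.comp_apply] at ht
      have h2 : Spec.map (ρ t) (closedPoint (S t).R) ∈ hA.fromSpec ⁻¹ᵁ Y.basicOpen a := ht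
      rw [hA.fromSpec_preimage_basicOpen] at h2
      by_contra hu
      exact h2 ((mem_maximalIdeal _).mpr hu)
    let inv : ∀ t, K t := fun t ↦
      if h : IsUnit ((ρ t).hom a) then algebraMap (S t).R (S t).K ↑h.unit⁻¹ else 0
    have hinv : UProd.mk F K inv ∈ Vs := (UProd.mk_mem_valSubring_iff F K V).mpr
      (Eventually.of_forall fun t ↦ by
        by_cases h : IsUnit ((ρ t).hom a)
        · exact ⟨↑h.unit⁻¹, by simp only [inv, dif_pos h]⟩
        · exact ⟨0, by simp only [inv, dif_neg h, map_zero]⟩)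
    refine isUnit_iff_exists_inv.mpr ⟨⟨_, hinv⟩, Subtype.ext ?_⟩
    show UProd.mk F K _ * UProd.mk F K inv = 1
    rw [← map_mul, ← map_one (UProd.mk F K), UProd.mk_eq_iff]
    filter_upwards [h1] with t ht
    simp only [RingHom.pi_apply, RingHom.comp_apply, Pi.mul_apply, inv, dif_pos ht, Pi.one_apply]
    rw [← map_mul, ht.mul_val_inv, map_one]
  have hcentre : S₀.i₂ (closedPoint S₀.R) ⤳ y := by
    let q : Spec Γ(Y, A) := Spec.map (CommRingCat.ofHom ρs) (closedPoint Vs)
    show (Spec.map (CommRingCat.ofHom ρs) ≫ hA.fromSpec) (closedPoint Vs) ⤳ y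
    rw [Scheme.Hom.comp_apply]
    refine Specializes.trans (y := hA.fromSpec (hA.primeIdealOf ⟨y, hyA⟩)) ?_
      (specializes_of_eq (hA.fromSpec_primeIdealOf ⟨y, hyA⟩))
    refine Specializes.map ((PrimeSpectrum.le_iff_specializes _ _).mp ?_) hA.fromSpec.continuous
    intro a ha
    by_contra hna
    have h3 : hA.primeIdealOf ⟨y, hyA⟩ ∈ hA.fromSpec ⁻¹ᵁ Y.basicOpen a := by
      rw [hA.fromSpec_preimage_basicOpen]; exact hna
    have h4 : y ∈ Y.basicOpen a := by
      have := (show hA.fromSpec (hA.primeIdealOf ⟨y, hyA⟩) ∈ Y.basicOpen a from h3)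
      rwa [hA.fromSpec_primeIdealOf] at this
    exact (mem_maximalIdeal _).mp ha (hunit a h4)
  obtain ⟨⟨l, hl₁, hl₂⟩⟩ := (H S₀ hcentre).exists_lift
  -- the chart containing the centre of the lift
  have hzA : l (closedPoint Vs) ∈ (f ⁻¹ᵁ A : X.Opens) := by
    show f (l (closedPoint Vs)) ∈ A
    have h5 := congr($(hl₂) (closedPoint Vs))
    rw [Scheme.Hom.comp_apply] at h5
    refine h5 ▸ ?_
    show (Spec.map (CommRingCat.ofHom ρs) ≫ hA.fromSpec) (closedPoint Vs) ∈ A
    have : (Spec.map (CommRingCat.ofHom ρs) ≫ hA.fromSpec) (closedPoint Vs) ∈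
        Set.range hA.fromSpec := ⟨_, (Scheme.Hom.comp_apply _ _ _).symm⟩
    rwa [hA.range_fromSpec] at this
  obtain ⟨m, -, hm⟩ : ∃ m ∈ cov, l (closedPoint Vs) ∈ U m := by simpa using hcov hzA
  have hlU : Set.range l ⊆ (U m : Set X) := range_subset_of_closedPoint_mem _ hm
  let ψ := pointHom (hU m) l hlU
  -- the generic point of the ultraproduct lies in both charts
  let ps : Spec (CommRingCat.of (UProd.Prod F K)) ⟶ X :=
    Spec.map (CommRingCat.ofHom φ) ≫ (hU j).fromSpec
  have hpsl : Spec.map (CommRingCat.ofHom Vs.subtype) ≫ l = ps := hl₁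
  have hpsj : Set.range ps ⊆ (U j : Set X) := by
    rintro _ ⟨q, rfl⟩
    rw [← (hU j).range_fromSpec]
    exact ⟨_, (Scheme.Hom.comp_apply _ _ q).symm⟩
  have hpsm : Set.range ps ⊆ (U m : Set X) := by
    rw [← hpsl]
    rintro _ ⟨q, rfl⟩
    exact hlU ⟨_, (Scheme.Hom.comp_apply _ _ q).symm⟩
  have hφps : pointHom (hU j) ps hpsj = CommRingCat.ofHom φ :=
    pointHom_ext _ (SpecMap_pointHom _ _ _)
  have hψps : pointHom (hU m) ps hpsm = ψ ≫ CommRingCat.ofHom Vs.subtype :=
    pointHom_ext _ (by rw [SpecMap_pointHom, Spec.map_comp, Category.assoc, SpecMap_pointHom, hpsl])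
  obtain ⟨g, g', hgg, hpg⟩ := exists_basicOpen_le_affine_inter (hU j) (hU m)
    (ps (closedPoint (UProd.Prod F K))) ⟨hpsj ⟨_, rfl⟩, hpsm ⟨_, rfl⟩⟩
  have hD : IsAffineOpen (X.basicOpen g) := (hU j).basicOpen g
  have hDm : X.basicOpen g ≤ U m := hgg ▸ X.basicOpen_le g'
  have hgne : φ g ≠ 0 := by
    have := (mem_basicOpen_iff_pointHom (hU j) ps hpsj g).mp hpg
    rwa [hφps] at this
  have hDev : ∀ᶠ t in (F : Filter I), (S t).i₁ (closedPoint (S t).K) ∈ X.basicOpen g := by
    by_contra hn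
    rw [← Ultrafilter.eventually_not] at hn
    refine hgne (Eq.trans (UProd.assemble_apply F K _ hj _ g (fun _ ↦ 0) ?_) (map_zero _))
    filter_upwards [hn] with t ht h
    by_contra hne'
    exact ht ((mem_basicOpen_iff_pointHom (hU j) _ (hrK t j h) g).mpr hne')
  -- each coordinate of the chart is eventually integral
  have hint : ∀ a : Γ(X, U m), ∀ᶠ t in (F : Filter I), ∀ h : px t m, η t m h a ∈ V t := by
    intro a
    have := (hU j).isLocalization_basicOpen g
    obtain ⟨⟨b, ⟨_, n, rfl⟩⟩, hb⟩ := IsLocalization.surj (Submonoid.powers g)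
      ((X.presheaf.map (homOfLE hDm).op).hom a)
    have hbD : ∀ {L : Type u} [CommRing L] (p : Spec (CommRingCat.of L) ⟶ X)
        (hp : Set.range p ⊆ (X.basicOpen g : Set X)),
        (pointHom (hU m) p (hp.trans hDm)).hom a *
          (pointHom (hU j) p (hp.trans (X.basicOpen_le g))).hom g ^ n =
        (pointHom (hU j) p (hp.trans (X.basicOpen_le g))).hom b := by
      intro L _ p hp
      rw [← pointHom_map (hU m) hD hDm p hp, ← pointHom_map (hU j) hD (X.basicOpen_le g) p hp]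
      have hb' : (X.presheaf.map (homOfLE hDm).op).hom a *
          (X.presheaf.map (homOfLE (X.basicOpen_le g)).op).hom (g ^ n) =
          (X.presheaf.map (homOfLE (X.basicOpen_le g)).op).hom b := hb
      simpa only [CommRingCat.hom_comp, RingHom.comp_apply, map_mul, map_pow] using
        congrArg (pointHom hD p hp).hom hb'
    have hps : Set.range ps ⊆ (X.basicOpen g : Set X) := range_subset_of_closedPoint_mem _ hpg
    have hK := hbD ps hps
    rw [hφps, hψps] at hK
    obtain ⟨r, hr, hra⟩ := (ψ.hom a).2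
    change ((ψ.hom a).1 : UProd.Prod F K) * φ g ^ n = φ b at hK
    rw [← hra, UProd.assemble_apply F K _ hj _ g (fun t ↦ if h : px t j then η t j h g else 0)
        (Eventually.of_forall fun t h ↦ by rw [dif_pos h]),
      UProd.assemble_apply F K _ hj _ b (fun t ↦ if h : px t j then η t j h b else 0)
        (Eventually.of_forall fun t h ↦ by rw [dif_pos h]),
      ← map_pow, ← map_mul, UProd.mk_eq_iff] at hK
    filter_upwards [hK, hDev] with t ht htD htm
    have htj : px t j := X.basicOpen_le g htD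
    have h1 := hbD (S t).i₁ (range_subset_of_closedPoint_mem _ htD)
    simp only [Pi.mul_apply, Pi.pow_apply, dif_pos htj] at ht
    have hg0 : η t j htj g ≠ 0 :=
      (mem_basicOpen_iff_pointHom (hU j) _ (hrK t j htj) g).mp htD
    have : η t m htm a = r t :=
      mul_right_cancel₀ (pow_ne_zero n hg0) (Eq.trans h1 ht.symm)
    exact this ▸ hr t
  -- contradiction
  have hmev : ∀ᶠ t in (F : Filter I), px t m := by
    filter_upwards [hDev] with t ht using hDm ht
  have hft := LocallyOfFiniteType.finiteType_appLE f hA (hU m) (hUA m)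
  algebraize [(f.appLE A (U m) (hUA m)).hom]
  obtain ⟨G, hG⟩ := hft.out
  obtain ⟨t, htm, htG⟩ := (hmev.and ((G.eventually_all).mpr fun a _ ↦ hint a)).exists
  have hall : ∀ a, η t m htm a ∈ V t := by
    intro a
    have ha : a ∈ Algebra.adjoin Γ(Y, A) (G : Set Γ(X, U m)) := hG ▸ trivial
    induction ha using Algebra.adjoin_induction with
    | mem a ha => exact htG a ha htm
    | algebraMap r => exact ⟨(ρ t).hom r, (hη t m htm r).symm⟩
    | add a b _ _ ha hb => rw [map_add]; exact add_mem ha hb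
    | mul a b _ _ ha hb => rw [map_mul]; exact mul_mem ha hb
  choose e he using hall
  have hinj : Function.Injective (algebraMap (S t).R (S t).K) := IsFractionRing.injective _ _
  let ε : Γ(X, U m) →+* (S t).R :=
    { toFun := e
      map_one' := hinj (by rw [he]; simp)
      map_mul' := fun a b ↦ hinj (by rw [map_mul, he, he, he, map_mul])
      map_zero' := hinj (by rw [he]; simp)
      map_add' := fun a b ↦ hinj (by rw [map_add, he, he, he, map_add]) }
  refine hSno t ⟨⟨⟨Spec.map (CommRingCat.ofHom ε) ≫ (hU m).fromSpec, ?_, ?_⟩⟩⟩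
  · rw [← Spec.map_comp_assoc]
    have : CommRingCat.ofHom ε ≫ CommRingCat.ofHom (algebraMap (S t).R (S t).K) =
        pointHom (hU m) (S t).i₁ (hrK t m htm) := by
      ext a; exact he a
    rw [this, SpecMap_pointHom]
  · rw [Category.assoc, ← IsAffineOpen.SpecMap_appLE_fromSpec f hA (hU m) (hUA m),
      ← Spec.map_comp_assoc]
    refine (congrArg (fun χ ↦ Spec.map χ ≫ hA.fromSpec) ?_).trans
      (SpecMap_pointHom hA (S t).i₂ (range_subset_of_closedPoint_mem _ (hcA t)))
    ext a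
    exact hinj ((he _).trans (hη t m htm a))

/-- If every valuative square centred at a generisation of `y` lifts, then `f` is universally
closed over an open neighbourhood of `y`. -/
theorem exists_nhd_universallyClosed (y : Y)
    (H : ∀ S : ValuativeCommSq f, S.i₂ (closedPoint S.R) ⤳ y → S.commSq.HasLift) :
    ∃ U : Y.Opens, y ∈ U ∧ UniversallyClosed (f ∣_ U) := by
  obtain ⟨U, hyU, hU⟩ := exists_nhd_hasLift f y H
  refine ⟨U, hyU, UniversallyClosed.of_valuativeCriterion (f ∣_ U) fun S ↦ ?_⟩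
  let S' : ValuativeCommSq f := ⟨S.R, S.K, S.i₁ ≫ (f ⁻¹ᵁ U).ι, S.i₂ ≫ U.ι,
    ⟨by rw [Category.assoc, ← morphismRestrict_ι, reassoc_of% S.commSq.w]⟩⟩
  have hmem : S'.i₂ (closedPoint S.R) ∈ U := by
    show (S.i₂ ≫ U.ι) (closedPoint S.R) ∈ U
    rw [Scheme.Hom.comp_apply]
    exact (S.i₂ (closedPoint S.R)).2
  obtain ⟨⟨l, h1, h2⟩⟩ := (hU S' hmem).exists_lift
  have hl : Set.range l ⊆ Set.range (f ⁻¹ᵁ U).ι := by
    rw [Scheme.Opens.range_ι]
    refine range_subset_of_closedPoint_mem l ?_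
    show f (l (closedPoint S.R)) ∈ U
    rw [← Scheme.Hom.comp_apply, h2]
    exact hmem
  refine ⟨⟨⟨IsOpenImmersion.lift (f ⁻¹ᵁ U).ι l hl, ?_, ?_⟩⟩⟩
  · rw [← cancel_mono (f ⁻¹ᵁ U).ι, Category.assoc, IsOpenImmersion.lift_fac]
    exact h1
  · rw [← cancel_mono U.ι, Category.assoc, morphismRestrict_ι, IsOpenImmersion.lift_fac_assoc]
    exact h2

end Groth.Agent.DvrDom
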