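import Mathlib.RingTheory.OrderOfVanishing.Basic
import Mathlib.RingTheory.Length
import Mathlib.RingTheory.Noetherian.Basic
import Mathlib.RingTheory.Finiteness.Finsupp
import Mathlib.RingTheory.Localization.FractionRing

/-!
# Krull–Akizuki, birational case

If `C` is a Noetherian domain of Krull dimension at most one with fraction field `K`, then every
`C`-subalgebra of `K` is a Noetherian ring.
-/

universe u v

namespace Groth.Agent.DvrDom

open Submodule nonZeroDivisors
open scoped Pointwise

variable {C : Type u} [CommRing C]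

/-- A module all of whose finitely generated submodules have bounded length is finite. -/
theorem finite_of_forall_fg_length_le {Q : Type v} [AddCommGroup Q] [Module C Q] (n : ℕ)
    (h : ∀ N : Submodule C Q, N.FG → Module.length C N ≤ n) : Module.Finite C Q := by
  let S : Set ℕ := {k | ∃ N : Submodule C Q, N.FG ∧ Module.length C N = k}
  have hbdd : BddAbove S := by
    refine ⟨n, ?_⟩
    rintro k ⟨N, hN, hk⟩
    have := h N hN
    rw [hk] at this
    exact_mod_cast this
  have hne : S.Nonempty := ⟨0, ⊥, fg_bot, by simp⟩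
  obtain ⟨N₀, hN₀, hk⟩ := Nat.sSup_mem hne hbdd
  refine ⟨⟨(hN₀).choose, ?_⟩⟩
  rw [hN₀.choose_spec, eq_top_iff]
  intro x _
  by_contra hx
  let N₁ : Submodule C Q := N₀ ⊔ span C {x}
  have hN₁ : N₁.FG := hN₀.sup (fg_span_singleton x)
  have hle := h N₁ hN₁
  have hfl : IsFiniteLength C N₁ :=
    Module.length_ne_top_iff.mp (ne_top_of_le_ne_top (ENat.natCast_ne_top n) hle)
  obtain ⟨hn1, hn2⟩ := isFiniteLength_iff_isNoetherian_isArtinian.mp hfl
  have hne' : N₀.comap N₁.subtype ≠ ⊤ := by
    intro he
    apply hx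
    have hx1 : x ∈ N₁ := mem_sup_right (mem_span_singleton_self x)
    have : (⟨x, hx1⟩ : N₁) ∈ N₀.comap N₁.subtype := he ▸ mem_top
    exact this
  have hlt := Submodule.length_lt hne'
  rw [(Submodule.comapSubtypeEquivOfLe (le_sup_left : N₀ ≤ N₁)).length_eq, hk] at hlt
  obtain ⟨m, hm⟩ := ENat.ne_top_iff_exists.mp
    (ne_top_of_le_ne_top (ENat.natCast_ne_top n) hle)
  rw [← hm] at hlt
  have : m ≤ sSup S := le_csSup hbdd ⟨N₁, hN₁, hm.symm⟩
  have : sSup S < m := by exact_mod_cast hlt
  omega

variable [IsDomain C]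

/-- `length (J / aJ) ≤ length (C / aC)` for an ideal `J` of finite colength. -/
theorem length_quot_smul_le {a : C} (ha : a ≠ 0) (J : Ideal C)
    (hJ : Module.length C (C ⧸ J) ≠ ⊤) :
    Module.length C (↥J ⧸ (Submodule.comap J.subtype (a • J))) ≤ Ring.ord C a := by
  have ha' : a ∈ C⁰ := mem_nonZeroDivisors_of_ne_zero ha
  have h1 := Module.length_eq_add_of_exact (Ideal.mulQuot a J) (Ideal.quotOfMul a J)
    (Ideal.mulQuot_injective J ha') (Ideal.quotOfMul_surjective J)
    (Ideal.exact_mulQuot_quotOfMul J)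
  have hle : a • J ≤ J := by
    intro y hy
    obtain ⟨j, hj, rfl⟩ := Submodule.mem_smul_pointwise_iff_exists _ _ _ |>.mp hy
    exact J.smul_mem a hj
  let f : (↥J ⧸ (Submodule.comap J.subtype (a • J))) →ₗ[C] C ⧸ (a • J) :=
    Submodule.mapQ _ _ J.subtype le_rfl
  let g : (C ⧸ (a • J)) →ₗ[C] C ⧸ J := Submodule.factor hle
  have hf : Function.Injective f := by
    rw [← LinearMap.ker_eq_bot]
    exact Submodule.ker_liftQ_eq_bot _ _ _ (by rw [LinearMap.ker_comp, Submodule.ker_mkQ])
  have hg : Function.Surjective g := Submodule.factor_surjective hle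
  have hex : Function.Exact f g := by
    intro y
    obtain ⟨y, rfl⟩ := Submodule.mkQ_surjective _ y
    constructor
    · intro h
      have hy : y ∈ J := (Submodule.Quotient.mk_eq_zero J).mp h
      exact ⟨Submodule.Quotient.mk ⟨y, hy⟩, rfl⟩
    · rintro ⟨z, hz⟩
      obtain ⟨z, rfl⟩ := Submodule.mkQ_surjective _ z
      have : (Submodule.Quotient.mk (z : C) : C ⧸ a • J) = Submodule.Quotient.mk y := hz
      show g (Submodule.Quotient.mk y) = 0
      rw [← this]
      exact (Submodule.Quotient.mk_eq_zero J).mpr z.2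
  have h2 := Module.length_eq_add_of_exact f g hf hg hex
  rw [h2, add_comm] at h1
  exact ((ENat.add_le_add_iff_left hJ).mp (le_of_eq h1))

variable [IsNoetherianRing C] [Ring.KrullDimLE 1 C]
variable {K : Type v} [Field K] [Algebra C K] [IsFractionRing C K]

/-- The image in `D/aD` of a finitely generated submodule of `D ⊆ K` has length `≤ length(C/aC)`. -/
theorem length_map_mkQ_le (D : Subalgebra C K) {a : C} (ha : a ≠ 0) (N : Submodule C D)
    (hN : N.FG) :
    Module.length C (N.map (LinearMap.range (LinearMap.lsmul C D a)).mkQ) ≤ Ring.ord C a := by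
  classical
  obtain ⟨s, hs⟩ := hN
  obtain ⟨c, hc⟩ := IsLocalization.exist_integer_multiples_of_finset C⁰ (s.image fun d : D ↦ (d : K))
  -- `c • N` lands in `C`
  have hint : ∀ x ∈ N, ∃ j : C, algebraMap C K j = (c : C) • (x : K) := by
    intro x hx
    rw [← hs] at hx
    induction hx using Submodule.span_induction with
    | mem y hy =>
      obtain ⟨j, hj⟩ := hc (y : K) (Finset.mem_image_of_mem _ hy)
      exact ⟨j, hj⟩
    | zero => exact ⟨0, by simp⟩
    | add y z _ _ hy hz =>
      obtain ⟨j, hj⟩ := hy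
      obtain ⟨k, hk⟩ := hz
      exact ⟨j + k, by simp [hj, hk, smul_add]⟩
    | smul r y _ hy =>
      obtain ⟨j, hj⟩ := hy
      exact ⟨r * j, by
        rw [map_mul, hj, Subalgebra.coe_smul, smul_comm, ← Algebra.smul_def]⟩
  choose g hg using hint
  have hinj : Function.Injective (algebraMap C K) := IsFractionRing.injective C K
  have hc0 : (c : C) ≠ 0 := nonZeroDivisors.ne_zero c.2
  let gl : N →ₗ[C] C :=
    { toFun := fun x ↦ g x.1 x.2
      map_add' := fun x y ↦ hinj (by simp [hg, smul_add])
      map_smul' := fun r x ↦ hinj (by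
        simp only [hg, RingHom.id_apply, smul_eq_mul, map_mul, Submodule.coe_smul,
          Subalgebra.coe_smul]
        rw [smul_comm, ← Algebra.smul_def]) }
  have hglinj : Function.Injective gl := by
    intro x y hxy
    have : (c : C) • ((x : D) : K) = (c : C) • ((y : D) : K) := by
      rw [← hg x.1 x.2, ← hg y.1 y.2]
      exact congrArg _ hxy
    rw [Algebra.smul_def, Algebra.smul_def] at this
    exact Subtype.ext (Subtype.ext (mul_left_cancel₀
      (by simpa [map_eq_zero_iff _ hinj] using hc0) this))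
  let J : Ideal C := LinearMap.range gl
  have hJ : Module.length C (C ⧸ J) ≠ ⊤ ∨ N = ⊥ := by
    by_cases hbot : J = ⊥
    · right
      rw [Submodule.eq_bot_iff]
      intro x hx
      have : gl ⟨x, hx⟩ ∈ J := ⟨_, rfl⟩
      rw [hbot, Submodule.mem_bot] at this
      exact congrArg Subtype.val (hglinj (this.trans (map_zero gl).symm))
    · left
      obtain ⟨j, hjJ, hj0⟩ := Submodule.exists_mem_ne_zero_of_ne_bot hbot
      have hle : Ideal.span {j} ≤ J := (Ideal.span_singleton_le_iff_mem _).mpr hjJ
      exact ne_top_of_le_ne_top (Ring.ord_ne_top (R := C) (mem_nonZeroDivisors_of_ne_zero hj0))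
        (Module.length_le_of_surjective (Submodule.factor hle) (Submodule.factor_surjective hle))
  rcases hJ with hJ | rfl
  swap
  · rw [Submodule.map_bot, Module.length_eq_zero]
    exact zero_le
  let e : N ≃ₗ[C] J := LinearEquiv.ofInjective gl hglinj
  let π := (LinearMap.range (LinearMap.lsmul C D a)).mkQ
  let φ : J →ₗ[C] ↥(N.map π) :=
    (π.submoduleMap N).comp e.symm.toLinearMap
  have hφ : Function.Surjective φ := by
    intro z
    obtain ⟨w, hw⟩ := LinearMap.submoduleMap_surjective π N z
    exact ⟨e w, by simp [φ, hw]⟩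
  have hker : Submodule.comap J.subtype (a • J) ≤ LinearMap.ker φ := by
    intro z hz
    obtain ⟨j, hj, hjz⟩ := Submodule.mem_smul_pointwise_iff_exists _ _ _ |>.mp hz
    have : z = a • (⟨j, hj⟩ : J) := Subtype.ext hjz.symm
    rw [LinearMap.mem_ker, this, map_smul]
    apply Subtype.ext
    show a • (φ ⟨j, hj⟩).1 = 0
    show a • π ((e.symm ⟨j, hj⟩ : N) : D) = 0
    rw [← map_smul]
    exact (Submodule.Quotient.mk_eq_zero _).mpr ⟨_, rfl⟩
  have hs' : Function.Surjective (Submodule.liftQ _ φ hker) := by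
    intro z
    obtain ⟨w, hw⟩ := hφ z
    exact ⟨Submodule.Quotient.mk w, hw⟩
  exact (Module.length_le_of_surjective _ hs').trans (length_quot_smul_le ha J hJ)

/-- **Krull–Akizuki**, birational case. -/
theorem isNoetherianRing_subalgebra (D : Subalgebra C K) : IsNoetherianRing D := by
  rw [isNoetherianRing_iff_ideal_fg]
  intro I
  by_cases hI : I = ⊥
  · exact hI ▸ Submodule.fg_bot
  obtain ⟨x, hxI, hx0⟩ := Submodule.exists_mem_ne_zero_of_ne_bot hI
  obtain ⟨⟨p, q⟩, hpq⟩ := IsLocalization.surj C⁰ (x : K)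
  have hxK : (x : K) ≠ 0 := fun h ↦ hx0 (Subtype.ext h)
  have hp : p ≠ 0 := by
    rintro rfl
    simp [hxK, nonZeroDivisors.ne_zero q.2] at hpq
  have hpI : algebraMap C D p ∈ I := by
    have : algebraMap C D p = x * algebraMap C D q := Subtype.ext hpq.symm
    exact this ▸ I.mul_mem_right _ hxI
  let W : Submodule C D := LinearMap.range (LinearMap.lsmul C D p)
  have hfin : Module.Finite C (D ⧸ W) := by
    obtain ⟨n, hn⟩ := ENat.ne_top_iff_exists.mp
      (Ring.ord_ne_top (R := C) (mem_nonZeroDivisors_of_ne_zero hp))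
    refine finite_of_forall_fg_length_le n fun N hN ↦ ?_
    obtain ⟨s, hs⟩ := hN
    classical
    choose l hl using fun z : D ⧸ W ↦ W.mkQ_surjective z
    have : N = (span C (s.image l : Set D)).map W.mkQ := by
      rw [Submodule.map_span, Finset.coe_image, ← Set.image_comp, ← hs]
      simp [Function.comp_def, hl]
    rw [this, hn]
    exact length_map_mkQ_le D hp _ ⟨_, rfl⟩
  have : IsNoetherian C (D ⧸ W) := isNoetherian_of_isNoetherianRing_of_finite C _
  -- pass to `D`-submodules
  let W' : Submodule D D := Ideal.span {algebraMap C D p}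
  have hW : W'.restrictScalars C = W := by
    ext z
    constructor
    · intro hz
      obtain ⟨d, rfl⟩ := Ideal.mem_span_singleton'.mp hz
      exact ⟨d, by simp [Algebra.smul_def, mul_comm]⟩
    · rintro ⟨d, rfl⟩
      exact Ideal.mem_span_singleton'.mpr ⟨d, by simp [Algebra.smul_def, mul_comm]⟩
  have hN' : IsNoetherian C (D ⧸ W') :=
    isNoetherian_of_linearEquiv
      ((Submodule.quotEquivOfEq _ _ hW.symm).trans (Submodule.Quotient.restrictScalarsEquiv C W'))
  have : IsNoetherian D (D ⧸ W') := isNoetherian_of_tower C hN'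
  refine Submodule.fg_of_fg_map_of_fg_inf_ker W'.mkQ (IsNoetherian.noetherian _) ?_
  have hle : W' ≤ I := by rwa [Ideal.span_singleton_le_iff_mem]
  rw [Submodule.ker_mkQ, inf_of_le_right hle]
  exact ⟨{algebraMap C D p}, by simp [W']⟩

end Groth.Agent.DvrDom
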