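import Groth.Agent.DvrDom.KrullAkizuki
import Mathlib.RingTheory.Valuation.LocalSubring
import Mathlib.RingTheory.Ideal.KrullsHeightTheorem
import Mathlib.RingTheory.DiscreteValuationRing.Basic
import Mathlib.RingTheory.Adjoin.FG
import Mathlib.RingTheory.AlgebraicIndependent.Transcendental
import Mathlib.RingTheory.AlgebraicIndependent.Basic
import Mathlib.RingTheory.Algebraic.Integral
import Mathlib.RingTheory.Polynomial.Basic
import Mathlib.RingTheory.RingHom.EssFiniteType

/-!
# Discrete valuation rings dominating a Noetherian local domain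

EGA II 7.1.7: a Noetherian local domain which is not a field is dominated by a discrete valuation
ring in any finitely generated field extension of its fraction field.
-/

universe u v

namespace Groth.Agent.DvrDom

open IsLocalRing

/-- A ring inside a field which it generates as a field has that field as fraction field. -/
theorem isFractionRing_of_closure {R : Type u} [CommRing R] {L : Type v} [Field L] [Algebra R L]
    [FaithfulSMul R L] (h : Subfield.closure (Set.range (algebraMap R L)) = ⊤) :
    IsFractionRing R L := by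
  refine IsFractionRing.of_field R L fun z ↦ ?_
  have hz : z ∈ Subfield.closure (Set.range (algebraMap R L)) := h ▸ Subfield.mem_top z
  obtain ⟨y, hy, w, hw, rfl⟩ := Subfield.mem_closure_iff.mp hz
  rw [← RingHom.coe_range, Subring.closure_eq] at hy hw
  obtain ⟨y, rfl⟩ := hy
  obtain ⟨w, rfl⟩ := hw
  exact ⟨y, w, rfl⟩

variable (A : Type u) [CommRing A] [IsDomain A] [IsNoetherianRing A] [IsLocalRing A]

theorem algebraMap_ne_zero_exists (hA : ¬ IsField A) : ∃ a ∈ maximalIdeal A, a ≠ 0 := by
  by_contra h
  push Not at h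
  exact hA (isField_iff_maximalIdeal_eq.mpr ((Submodule.eq_bot_iff _).mpr h))

omit [IsDomain A] in
/-- One-dimensional case: a valuation ring of the fraction field containing `A` is a DVR or `K`. -/
theorem isDiscreteValuationRing_of_krullDimLE_one [IsDomain A] [Ring.KrullDimLE 1 A]
    {K : Type v} [Field K] [Algebra A K] [IsFractionRing A K] (V : ValuationSubring K)
    (hV : ∀ a, algebraMap A K a ∈ V) {a : A} (ha0 : a ≠ 0)
    (ha : V.valuation (algebraMap A K a) < 1) : IsDiscreteValuationRing V := by
  let D : Subalgebra A K := { V.toSubring with algebraMap_mem' := hV }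
  have hD : IsNoetherianRing D := isNoetherianRing_subalgebra D
  let e : D ≃+* V :=
    { toFun := fun x ↦ ⟨x.1, x.2⟩
      invFun := fun x ↦ ⟨x.1, x.2⟩
      left_inv := fun x ↦ rfl
      right_inv := fun x ↦ rfl
      map_mul' := fun _ _ ↦ rfl
      map_add' := fun _ _ ↦ rfl }
  have : IsNoetherianRing V := isNoetherianRing_of_ringEquiv D e
  have : IsPrincipalIdealRing V :=
    ⟨fun I ↦ IsBezout.isPrincipal_of_FG I (IsNoetherian.noetherian I)⟩
  refine { not_a_field' := fun h ↦ ?_ }
  have := (V.valuation_lt_one_iff ⟨_, hV a⟩).mpr ha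
  rw [h, Ideal.mem_bot] at this
  exact ha0 ((map_eq_zero_iff _ (IsFractionRing.injective A K)).mp (congrArg Subtype.val this))

/-- **EGA II 7.1.7**, birational case. -/
theorem exists_dvr_dominating (hA : ¬ IsField A) (K : Type v) [Field K] [Algebra A K]
    [IsFractionRing A K] :
    ∃ R : ValuationSubring K, IsDiscreteValuationRing R ∧ (∀ a, algebraMap A K a ∈ R) ∧
      ∀ a ∈ maximalIdeal A, R.valuation (algebraMap A K a) < 1 := by
  classical
  obtain ⟨V₀, hV₀, hloc⟩ := IsLocalRing.exists_factor_valuationRing (algebraMap A K)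
  have hlt₀ : ∀ a ∈ maximalIdeal A, V₀.valuation (algebraMap A K a) < 1 := by
    intro a ha
    refine (V₀.valuation_lt_one_iff ⟨_, hV₀ a⟩).mp ?_
    exact fun hu ↦ (mem_maximalIdeal a).mp ha (hloc.map_nonunit a hu)
  obtain ⟨s, hs⟩ := (IsNoetherian.noetherian (maximalIdeal A) : (maximalIdeal A).FG)
  have hsne : s.Nonempty := by
    rw [Finset.nonempty_iff_ne_empty]
    rintro rfl
    simp at hs
    exact hA (isField_iff_maximalIdeal_eq.mpr hs.symm)
  obtain ⟨x, hxs, hxmax⟩ := s.exists_max_image (fun y ↦ V₀.valuation (algebraMap A K y)) hsne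
  have hsm : ∀ y ∈ s, y ∈ maximalIdeal A := fun y hy ↦ hs ▸ Ideal.subset_span hy
  have hinj := IsFractionRing.injective A K
  have hx0 : algebraMap A K x ≠ 0 := by
    intro h
    obtain ⟨a, ha, ha0⟩ := algebraMap_ne_zero_exists A hA
    refine ha0 ?_
    have : Ideal.span (s : Set A) ≤ ⊥ := Ideal.span_le.mpr fun y hy ↦ by
      have := hxmax y hy
      rw [h, map_zero, le_zero_iff, Valuation.zero_iff, map_eq_zero_iff _ hinj] at this
      simp [this]
    exact this ((show Ideal.span (s : Set A) = maximalIdeal A from hs) ▸ ha)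
  let T : Set K := (fun y ↦ algebraMap A K y / algebraMap A K x) '' s
  let B : Subalgebra A K := Algebra.adjoin A T
  have hBV : ∀ b ∈ B, b ∈ V₀ := by
    intro b hb
    induction hb using Algebra.adjoin_induction with
    | mem z hz =>
      obtain ⟨y, hy, rfl⟩ := hz
      rw [← V₀.valuation_le_one_iff, map_div₀]
      exact div_le_one_of_le₀ (hxmax y hy) zero_le
    | algebraMap r => exact hV₀ r
    | add z w _ _ hz hw => exact add_mem hz hw
    | mul z w _ _ hz hw => exact mul_mem hz hw
  have hfg : B.FG := Subalgebra.fg_def.mpr ⟨T, (s.finite_toSet.image _), rfl⟩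
  have : IsNoetherianRing B.toSubring := isNoetherianRing_of_fg hfg
  let xB : B.toSubring := ⟨algebraMap A K x, B.algebraMap_mem x⟩
  have hxB : Ideal.span {xB} ≠ ⊤ := by
    rw [Ne, Ideal.span_singleton_eq_top]
    intro hu
    obtain ⟨w, hw⟩ := isUnit_iff_exists_inv.mp hu
    have h1 : V₀.valuation (algebraMap A K x * (w : K)) = 1 := by
      rw [show algebraMap A K x * (w : K) = 1 from congrArg Subtype.val hw, map_one]
    rw [map_mul] at h1
    exact (lt_of_le_of_lt (mul_le_of_le_one_right' ((V₀.valuation_le_one_iff _).mpr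
      (hBV _ w.2))) (hlt₀ x (hsm x hxs))).ne h1
  obtain ⟨P, hP⟩ := Ideal.nonempty_minimalPrimes hxB
  have hPp : P.IsPrime := hP.1.1
  have hPh : P.height ≤ 1 := Ideal.height_le_one_of_isPrincipal_of_mem_minimalPrimes _ P hP
  let C := LocalSubring.ofPrime B.toSubring P
  have hBC : B.toSubring ≤ C.toSubring := LocalSubring.le_ofPrime _ _
  have : IsNoetherianRing C.toSubring := IsLocalization.isNoetherianRing P.primeCompl _ inferInstance
  have : Ring.KrullDimLE 1 C.toSubring := by
    rw [Ring.KrullDimLE, Order.krullDimLE_iff]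
    change ringKrullDim C.toSubring ≤ _
    rw [IsLocalization.AtPrime.ringKrullDim_eq_height P]
    exact_mod_cast hPh
  have hAC : ∀ a, algebraMap A K a ∈ C.toSubring := fun a ↦ hBC (B.algebraMap_mem a)
  have : IsFractionRing C.toSubring K := by
    refine IsFractionRing.of_field _ K fun z ↦ ?_
    obtain ⟨p, q, _, rfl⟩ := IsFractionRing.div_surjective (A := A) z
    exact ⟨⟨_, hAC p⟩, ⟨_, hAC q⟩, rfl⟩
  obtain ⟨V, hCV, hVloc⟩ := C.exists_le_valuationSubring
  have hxP : xB ∈ P := hP.1.2 (Ideal.mem_span_singleton_self _)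
  have hltP : ∀ b : B.toSubring, b ∈ P → V.valuation (b : K) < 1 := by
    intro b hb
    have h1 : algebraMap B.toSubring C.toSubring b ∈ maximalIdeal C.toSubring :=
      (IsLocalization.AtPrime.to_map_mem_maximal_iff C.toSubring P b).mpr hb
    refine (V.valuation_lt_one_iff ⟨(b : K), hCV (hBC b.2)⟩).mp ?_
    exact fun hu ↦ (mem_maximalIdeal _).mp h1
      (hVloc.map_nonunit (algebraMap B.toSubring C.toSubring b) hu)
  have hx' : V.valuation (algebraMap A K x) < 1 := hltP xB hxP
  refine ⟨V, isDiscreteValuationRing_of_krullDimLE_one C.toSubring V (fun c ↦ hCV c.2)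
      (a := ⟨_, hAC x⟩) (fun h ↦ hx0 (congrArg Subtype.val h)) hx', fun a ↦ hCV (hAC a), ?_⟩
  intro a ha
  rw [← hs] at ha
  induction ha using Submodule.span_induction with
  | mem y hy =>
    have hmem : algebraMap A K y / algebraMap A K x ∈ B := Algebra.subset_adjoin ⟨y, hy, rfl⟩
    have := hltP (⟨_, hmem⟩ * xB) (P.mul_mem_left _ hxP)
    have e : ((⟨_, hmem⟩ * xB : B.toSubring) : K) = algebraMap A K y := div_mul_cancel₀ _ hx0
    rwa [e] at this
  | zero => simp
  | add y z _ _ hy hz =>
    rw [map_add]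
    exact (V.valuation.map_add _ _).trans_lt (max_lt hy hz)
  | smul r y _ hy =>
    rw [smul_eq_mul, map_mul, map_mul]
    exact (mul_le_of_le_one_left' ((V.valuation_le_one_iff _).mpr (hCV (hAC r)))).trans_lt hy

/-- **EGA II 7.1.7**: a Noetherian local domain which is not a field is dominated by a discrete
valuation ring of any field `L ⊇ A` finitely generated as a field over `A`. -/
theorem exists_dvr_dominating_of_fg (hA : ¬ IsField A) (L : Type v) [Field L] [Algebra A L]
    [FaithfulSMul A L] (s : Set L) (hfin : s.Finite)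
    (hs : Subfield.closure (Set.range (algebraMap A L) ∪ s) = ⊤) :
    ∃ R : ValuationSubring L, IsDiscreteValuationRing R ∧ (∀ a, algebraMap A L a ∈ R) ∧
      ∀ a ∈ maximalIdeal A, R.valuation (algebraMap A L a) < 1 := by
  classical
  -- a maximal algebraically independent subset of `s`
  obtain ⟨t, ⟨hts, ht⟩, hmax⟩ :=
    Set.Finite.exists_maximal (s := {t : Set L | t ⊆ s ∧ AlgebraicIndepOn A id t})
      (hfin.finite_subsets.subset fun t ht ↦ ht.1)
      ⟨∅, Set.empty_subset _, algebraicIndependent_empty_type_iff.mpr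
        (FaithfulSMul.algebraMap_injective A L)⟩
  let S : Subalgebra A L := Algebra.adjoin A t
  have hSfg : S.FG := Subalgebra.fg_def.mpr ⟨t, hfin.subset hts, rfl⟩
  have halg : ∀ z ∈ s, IsAlgebraic S z := by
    intro z hz
    by_cases hzt : z ∈ t
    · exact isAlgebraic_algebraMap (⟨z, Algebra.subset_adjoin hzt⟩ : S)
    · by_contra hcon
      have hins : AlgebraicIndepOn A id (insert z t) := by
        refine (AlgebraicIndepOn.insert_iff hzt).mpr ⟨ht, ?_⟩
        have key : ∀ w : Set L, w = t → Transcendental (Algebra.adjoin A w) z := by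
          rintro w rfl
          exact hcon
        exact key _ (Set.image_id t)
      exact hzt (hmax ⟨Set.insert_subset hz hts, hins⟩ (Set.subset_insert z t)
        (Set.mem_insert z t))
  -- the prime `𝔪 + (t)` of `A[t]`
  have ht' : AlgebraicIndependent A ((↑) : t → L) := ht
  let e : MvPolynomial t A ≃ₐ[A] S :=
    ht'.aevalEquiv.trans (Subalgebra.equivOfEq _ _ (by rw [Subtype.range_coe]))
  let φ : S →+* ResidueField A :=
    ((residue A).comp MvPolynomial.constantCoeff).comp e.symm.toRingEquiv.toRingHom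
  have hφA : ∀ a, φ (algebraMap A S a) = residue A a := fun a ↦ by simp [φ]
  let P : Ideal S.toSubring := RingHom.ker φ
  have : P.IsPrime := RingHom.ker_isPrime φ
  have : IsNoetherianRing S.toSubring := isNoetherianRing_of_fg hSfg
  let C := LocalSubring.ofPrime S.toSubring P
  have : IsNoetherianRing C.toSubring := IsLocalization.isNoetherianRing P.primeCompl _ inferInstance
  have hSC : S.toSubring ≤ C.toSubring := LocalSubring.le_ofPrime _ _
  have hAC : ∀ a, algebraMap A L a ∈ C.toSubring := fun a ↦ hSC (S.algebraMap_mem a)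
  have hACm : ∀ a ∈ maximalIdeal A, (⟨_, hAC a⟩ : C.toSubring) ∈ maximalIdeal C.toSubring := by
    intro a ha
    exact (IsLocalization.AtPrime.to_map_mem_maximal_iff C.toSubring P
      ⟨_, S.algebraMap_mem a⟩).mpr
      (RingHom.mem_ker.mpr ((hφA a).trans ((residue_eq_zero_iff a).mpr ha)))
  -- integral multiples of the generators
  have hint : ∀ z ∈ s, ∃ c : C.toSubring, c ≠ 0 ∧ IsIntegral C.toSubring ((c : L) * z) := by
    intro z hz
    obtain ⟨y, hy0, hy⟩ := (halg z hz).exists_integral_multiple
    let ι : S →+* C.toSubring := Subring.inclusion hSC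
    refine ⟨ι y, fun h ↦ hy0 (Subtype.ext (congrArg Subtype.val h :)), ?_⟩
    let alg : Algebra S C.toSubring := ι.toAlgebra
    have : IsScalarTower S C.toSubring L := .of_algebraMap_eq fun _ ↦ rfl
    exact hy.tower_top
  choose c hc0 hcint using hint
  let W : Set L := Set.range fun z : s ↦ (c z.1 z.2 : L) * z.1
  let A' : Subalgebra C.toSubring L := Algebra.adjoin C.toSubring W
  have := hfin.to_subtype
  have hA'fin : Module.Finite C.toSubring A' :=
    Module.Finite.iff_fg.mpr (fg_adjoin_of_finite (Set.finite_range _)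
      (by rintro _ ⟨z, rfl⟩; exact hcint _ _))
  have : Algebra.IsIntegral C.toSubring A' := Algebra.IsIntegral.of_finite _ _
  obtain ⟨Q, hQmax, hQ⟩ := Ideal.exists_ideal_over_maximal_of_isIntegral (S := A')
    (maximalIdeal C.toSubring) (le_of_eq_of_le
      ((RingHom.injective_iff_ker_eq_bot _).mp (FaithfulSMul.algebraMap_injective _ _)) bot_le)
  have : IsNoetherianRing A'.toSubring :=
    show IsNoetherianRing A' from isNoetherianRing_of_fg (Subalgebra.fg_def.mpr ⟨W, Set.finite_range _, rfl⟩)
  let Q' : Ideal A'.toSubring := Q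
  have : Q'.IsPrime := hQmax.isPrime
  let D := LocalSubring.ofPrime A'.toSubring Q'
  have : IsNoetherianRing D.toSubring := IsLocalization.isNoetherianRing Q'.primeCompl _ inferInstance
  have hA'D : A'.toSubring ≤ D.toSubring := LocalSubring.le_ofPrime _ _
  have hCD : ∀ a : C.toSubring, (a : L) ∈ D.toSubring := fun a ↦ hA'D (A'.algebraMap_mem a)
  have hDm : ∀ a ∈ maximalIdeal A, (⟨_, hCD ⟨_, hAC a⟩⟩ : D.toSubring) ∈ maximalIdeal D.toSubring := by
    intro a ha
    refine (IsLocalization.AtPrime.to_map_mem_maximal_iff D.toSubring Q'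
      ⟨_, A'.algebraMap_mem ⟨_, hAC a⟩⟩).mpr ?_
    have := hACm a ha
    rw [← hQ] at this
    exact this
  have hD : ¬ IsField D.toSubring := by
    obtain ⟨a, ha, ha0⟩ := algebraMap_ne_zero_exists A hA
    intro hf
    have := hDm a ha
    rw [isField_iff_maximalIdeal_eq.mp hf, Ideal.mem_bot] at this
    exact ha0 ((map_eq_zero_iff _ (FaithfulSMul.algebraMap_injective A L)).mp
      (congrArg Subtype.val this))
  have : IsFractionRing D.toSubring L := by
    refine isFractionRing_of_closure (top_le_iff.mp (hs ▸ Subfield.closure_le.mpr ?_))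
    rintro z (⟨a, rfl⟩ | hz)
    · exact Subfield.subset_closure ⟨⟨_, hCD ⟨_, hAC a⟩⟩, rfl⟩
    · have h1 : (c z hz : L) * z ∈ Subfield.closure (Set.range (algebraMap D.toSubring L)) :=
        Subfield.subset_closure ⟨⟨_, hA'D (Algebra.subset_adjoin ⟨⟨z, hz⟩, rfl⟩)⟩, rfl⟩
      have h2 : (c z hz : L) ∈ Subfield.closure (Set.range (algebraMap D.toSubring L)) :=
        Subfield.subset_closure ⟨⟨_, hCD (c z hz)⟩, rfl⟩
      have h3 : (c z hz : L) ≠ 0 := fun h ↦ hc0 z hz (Subtype.ext h)
      simpa [h3] using mul_mem (inv_mem h2) h1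
  obtain ⟨R, hR, hDR, hRm⟩ := exists_dvr_dominating D.toSubring hD L
  exact ⟨R, hR, fun a ↦ hDR ⟨_, hCD ⟨_, hAC a⟩⟩, fun a ha ↦ hRm _ (hDm a ha)⟩

omit [IsDomain A] in
/-- A Noetherian local ring mapping to a field essentially of finite type, with the maximal ideal not
in the kernel, is dominated by a discrete valuation ring of that field. -/
theorem exists_dvr_dominating_hom {L : Type v} [Field L] (φ : A →+* L) (hφ : φ.EssFiniteType)
    {a₀ : A} (ha₀ : a₀ ∈ maximalIdeal A) (hne : φ a₀ ≠ 0) :
    ∃ R : ValuationSubring L, IsDiscreteValuationRing R ∧ (∀ a, φ a ∈ R) ∧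
      ∀ a ∈ maximalIdeal A, R.valuation (φ a) < 1 := by
  let I : Ideal A := RingHom.ker φ
  have : I.IsPrime := RingHom.ker_isPrime φ
  let B := A ⧸ I
  have : IsLocalRing B := IsLocalRing.of_surjective' _ Ideal.Quotient.mk_surjective
  let φ' : B →+* L := Ideal.Quotient.lift I φ fun _ ha ↦ ha
  have hφ' : Function.Injective φ' := RingHom.lift_injective_of_ker_le_ideal I _ le_rfl
  algebraize [φ', φ]
  have heft : Algebra.EssFiniteType A L := hφ
  have : FaithfulSMul B L := (faithfulSMul_iff_algebraMap_injective B L).mpr hφ'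
  obtain ⟨σ, hσ⟩ := (Algebra.essFiniteType_iff A L).mp heft
  have hm : ∀ a ∈ maximalIdeal A, Ideal.Quotient.mk I a ∈ maximalIdeal B := by
    intro a ha hu
    have := IsLocalHom.of_surjective (Ideal.Quotient.mk I) Ideal.Quotient.mk_surjective
    exact (mem_maximalIdeal a).mp ha (this.map_nonunit a hu)
  have hB : ¬ IsField B := by
    intro hf
    have h := hm a₀ ha₀
    rw [isField_iff_maximalIdeal_eq.mp hf, Ideal.mem_bot, Ideal.Quotient.eq_zero_iff_mem] at h
    exact hne h
  obtain ⟨R, hR, hBR, hRm⟩ := exists_dvr_dominating_of_fg B hB L σ σ.finite_toSet (by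
    rw [eq_top_iff]
    intro z _
    set F := Subfield.closure (Set.range (algebraMap B L) ∪ (σ : Set L))
    have hsub : ∀ w ∈ Algebra.adjoin A (σ : Set L), w ∈ F := by
      intro w hw
      induction hw using Algebra.adjoin_induction with
      | mem w hw => exact Subfield.subset_closure (Or.inr hw)
      | algebraMap r => exact Subfield.subset_closure (Or.inl ⟨Ideal.Quotient.mk I r, rfl⟩)
      | add w w' _ _ h h' => exact add_mem h h'
      | mul w w' _ _ h h' => exact mul_mem h h'
    obtain ⟨t, ht, htu, hzt⟩ := hσ z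
    have := mul_mem (hsub _ hzt) (inv_mem (hsub t ht))
    rwa [mul_assoc, mul_inv_cancel₀ htu.ne_zero, mul_one] at this)
  exact ⟨R, hR, fun a ↦ hBR (Ideal.Quotient.mk I a), fun a ha ↦ hRm _ (hm a ha)⟩

end Groth.Agent.DvrDom
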