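import Groth.Agent.DvrDom.Criterion

/-!
# Separatedness and properness by discrete valuation rings

EGA II 7.2.3 and 7.3.8 over a locally Noetherian base.
-/

universe u

open CategoryTheory AlgebraicGeometry IsLocalRing Limits

namespace Groth.Agent.DvrDom

/-- The inclusion `Spec (Frac A) → Spec A`. -/
noncomputable abbrev genericMap (A : Type u) [CommRing A] [IsDomain A] :
    Spec (CommRingCat.of (FractionRing A)) ⟶ Spec (CommRingCat.of A) :=
  Spec.map (CommRingCat.ofHom (algebraMap A (FractionRing A)))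

/-- A valuation subring's square, transported to its fraction ring. -/
theorem exists_iso_fractionRing {L : Type u} [Field L] (W : ValuationSubring L) :
    ∃ e : Spec (CommRingCat.of (FractionRing W)) ⟶ Spec (CommRingCat.of L), IsIso e ∧
      e ≫ Spec.map (CommRingCat.ofHom W.subtype) = genericMap W := by
  let e := (FractionRing.algEquiv W L).symm
  refine ⟨Spec.map (CommRingCat.ofHom e.toRingEquiv.toRingHom), ?_, ?_⟩
  · have : IsIso (CommRingCat.ofHom e.toRingEquiv.toRingHom) :=
      (RingEquiv.toCommRingCatIso e.toRingEquiv).isIso_hom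
    infer_instance
  · rw [← Spec.map_comp]
    congr 1
    ext a
    exact e.commutes a

variable {X Y : Scheme.{u}} [IsLocallyNoetherian Y] (f : X ⟶ Y)

/-- The existence part of the valuative criterion, for discrete valuation rings. -/
def DvrExistence : Prop :=
  ∀ (A : Type u) [CommRing A] [IsDomain A] [IsDiscreteValuationRing A]
    (x : Spec (CommRingCat.of (FractionRing A)) ⟶ X) (y : Spec (CommRingCat.of A) ⟶ Y),
    x ≫ f = genericMap A ≫ y →
      ∃ l : Spec (CommRingCat.of A) ⟶ X, l ≫ f = y ∧ genericMap A ≫ l = x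

omit [IsLocallyNoetherian Y] in
theorem DvrExistence.residueField (hf : DvrExistence f) {x₀ : X} {y' : Y} (h : f x₀ ⤳ y')
    (W : ValuationSubring (X.residueField x₀)) [IsDiscreteValuationRing W]
    (hW : ∀ a, (toResidue f x₀ h).hom a ∈ W) :
    ∃ l : Spec (CommRingCat.of W) ⟶ X, l ≫ f = centreMap W _ hW ∧
      Spec.map (CommRingCat.ofHom W.subtype) ≫ l = X.fromSpecResidueField x₀ := by
  obtain ⟨e, he, hcomp⟩ := exists_iso_fractionRing W
  have hsq : Spec.map (CommRingCat.ofHom W.subtype) ≫ centreMap W _ hW =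
      X.fromSpecResidueField x₀ ≫ f := by
    rw [centreMap, ← Spec.map_comp_assoc, ← SpecMap_toResidue_fromSpecStalk f x₀ h]
    rfl
  obtain ⟨l, h1, h2⟩ := hf W (e ≫ X.fromSpecResidueField x₀) (centreMap W _ hW)
    (by rw [← hcomp, Category.assoc, Category.assoc, hsq])
  refine ⟨l, h1, ?_⟩
  rw [← cancel_epi e, ← Category.assoc, hcomp, h2]

omit [IsLocallyNoetherian Y] in
/-- A valuative square lifts once all valuation rings of the residue field centred alike lift. -/
theorem exists_lift_square' (S : ValuativeCommSq f)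
    (H : ∀ (x₀ : X), x₀ = S.i₁ (closedPoint S.K) → ∀ (h : f x₀ ⤳ S.i₂ (closedPoint S.R))
      (V : ValuationSubring (X.residueField x₀)) (hV : ∀ a, (toResidue f x₀ h).hom a ∈ V),
      (∀ a ∈ maximalIdeal (Y.presheaf.stalk (S.i₂ (closedPoint S.R))),
        V.valuation ((toResidue f x₀ h).hom a) < 1) →
      ∃ l : Spec (CommRingCat.of V) ⟶ X, l ≫ f = centreMap V _ hV ∧
        Spec.map (CommRingCat.ofHom V.subtype) ≫ l = X.fromSpecResidueField x₀) :
    S.commSq.HasLift := by
  obtain ⟨R, K, i₁, i₂, ⟨w⟩⟩ := S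
  dsimp only at H
  set x₀ := i₁ (closedPoint K)
  set y' := i₂ (closedPoint R)
  let ι : X.residueField x₀ ⟶ CommRingCat.of K :=
    X.descResidueField (Scheme.stalkClosedPointTo i₁)
  have hι : Spec.map ι ≫ X.fromSpecResidueField x₀ = i₁ :=
    Scheme.descResidueField_stalkClosedPointTo_fromSpecResidueField K X i₁
  have h : f x₀ ⤳ y' := by
    rw [← Scheme.Hom.comp_apply, w, Scheme.Hom.comp_apply]
    exact (specializes_closedPoint _).map i₂.continuous
  let σ : Y.presheaf.stalk y' ⟶ CommRingCat.of R := Scheme.stalkClosedPointTo i₂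
  have hσ : Spec.map σ ≫ Y.fromSpecStalk y' = i₂ := Scheme.Spec_stalkClosedPointTo_fromSpecStalk i₂
  have key : σ ≫ CommRingCat.ofHom (algebraMap R K) = toResidue f x₀ h ≫ ι := by
    apply Spec.map_injective
    rw [← cancel_mono (Y.fromSpecStalk y'), Spec.map_comp, Category.assoc, hσ, Spec.map_comp,
      Category.assoc, SpecMap_toResidue_fromSpecStalk, reassoc_of% hι, w]
  have key' : ∀ a, algebraMap R K (σ.hom a) = ι.hom ((toResidue f x₀ h).hom a) :=
    fun a ↦ congr($(key).hom a)
  let VK : ValuationSubring K := ⟨(algebraMap R K).range, ValuationRing.isInteger_or_isInteger R⟩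
  let V : ValuationSubring (X.residueField x₀) := VK.comap ι.hom
  have hinj : Function.Injective (algebraMap R K) := IsFractionRing.injective R K
  have hmem : ∀ a, (toResidue f x₀ h).hom a ∈ V := fun a ↦ ⟨σ.hom a, key' a⟩
  let ψ : V →+* R := (RingEquiv.ofBijective (algebraMap R K).rangeRestrict
    ⟨fun a b e ↦ hinj (congrArg Subtype.val e), (algebraMap R K).rangeRestrict_surjective⟩).symm
      |>.toRingHom.comp ((ι.hom.comp V.subtype).codRestrict (algebraMap R K).range fun v ↦ v.2)
  have hψ : ∀ v, algebraMap R K (ψ v) = ι.hom v := fun v ↦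
    congrArg Subtype.val ((RingEquiv.ofBijective (algebraMap R K).rangeRestrict
      ⟨fun a b e ↦ hinj (congrArg Subtype.val e),
        (algebraMap R K).rangeRestrict_surjective⟩).apply_symm_apply _)
  have hm : ∀ a ∈ maximalIdeal (Y.presheaf.stalk y'),
      V.valuation ((toResidue f x₀ h).hom a) < 1 := by
    intro a ha
    refine (V.valuation_lt_one_iff ⟨_, hmem a⟩).mp fun hu ↦ ?_
    have h1 : IsUnit (σ.hom a) := by
      have h2 : ψ ⟨_, hmem a⟩ = σ.hom a := hinj ((hψ _).trans (key' a).symm)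
      exact h2 ▸ hu.map ψ
    exact (mem_maximalIdeal a).mp ha (IsLocalHom.map_nonunit (f := σ.hom) a h1)
  obtain ⟨l, hl, hl'⟩ := H x₀ rfl h V hmem hm
  refine ⟨⟨⟨Spec.map (CommRingCat.ofHom ψ) ≫ l, ?_, ?_⟩⟩⟩
  · have : CommRingCat.ofHom ψ ≫ CommRingCat.ofHom (algebraMap R K) =
        CommRingCat.ofHom V.subtype ≫ ι := by
      ext v; exact hψ v
    rw [← Spec.map_comp_assoc, this, Spec.map_comp_assoc, hl', hι]
  · rw [Category.assoc, hl, centreMap, ← Spec.map_comp_assoc]
    refine (congrArg (fun φ ↦ Spec.map φ ≫ Y.fromSpecStalk y') ?_).trans hσ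
    ext a
    exact hinj ((hψ _).trans (key' a).symm)

variable [LocallyOfFiniteType f]

/-- A valuative square whose residue-field discrete valuation rings lift, lifts. -/
theorem exists_lift_square [QuasiCompact f] (S : ValuativeCommSq f)
    (H : ∀ (x₀ : X), x₀ = S.i₁ (closedPoint S.K) → ∀ (h : f x₀ ⤳ S.i₂ (closedPoint S.R))
      (W : ValuationSubring (X.residueField x₀)), IsDiscreteValuationRing W →
      ∀ hW : ∀ a, (toResidue f x₀ h).hom a ∈ W,
      (∀ a ∈ maximalIdeal (Y.presheaf.stalk (S.i₂ (closedPoint S.R))),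
        W.valuation ((toResidue f x₀ h).hom a) < 1) →
      ∃ l : Spec (CommRingCat.of W) ⟶ X, l ≫ f = centreMap W _ hW ∧
        Spec.map (CommRingCat.ofHom W.subtype) ≫ l = X.fromSpecResidueField x₀) :
    S.commSq.HasLift :=
  exists_lift_square' f S fun x₀ hx₀ h V hV hm ↦
    exists_lift_of_dvr f x₀ h V hV hm fun W hW hWm hWd ↦ H x₀ hx₀ h W hW hWm hWd

theorem existence_of_dvrExistence [QuasiCompact f] (hf : DvrExistence f) :
    ValuativeCriterion.Existence f :=
  fun S ↦ exists_lift_square f S fun _ _ h W hW hWm _ ↦ hf.residueField f h W hWm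

/-- **EGA II 7.2.3**, locally Noetherian case. -/
theorem isSeparated_of_dvr
    (H : ∀ (A : Type u) [CommRing A] [IsDomain A] [IsDiscreteValuationRing A]
      (g₁ g₂ : Spec (CommRingCat.of A) ⟶ X), g₁ ≫ f = g₂ ≫ f →
      genericMap A ≫ g₁ = genericMap A ≫ g₂ → g₁ = g₂) : IsSeparated f := by
  have : IsLocallyNoetherian X := LocallyOfFiniteType.isLocallyNoetherian f
  let Δ := pullback.diagonal f
  have : IsLocallyNoetherian (pullback f f) :=
    LocallyOfFiniteType.isLocallyNoetherian (pullback.fst f f)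
  have hdvr : DvrExistence Δ := by
    intro A _ _ _ x y hxy
    refine ⟨y ≫ pullback.fst f f, ?_, ?_⟩
    · have h12 : y ≫ pullback.fst f f = y ≫ pullback.snd f f := by
        refine H A _ _ (by simp [pullback.condition]) ?_
        rw [← Category.assoc, ← Category.assoc, ← hxy]
        simp [Δ]
      apply pullback.hom_ext
      · simp [Δ]
      · simp [Δ, h12]
    · rw [← Category.assoc, ← hxy]
      simp [Δ]
  have := UniversallyClosed.of_valuativeCriterion Δ (existence_of_dvrExistence Δ hdvr)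
  exact ⟨.of_isPreimmersion _ Δ.isClosedMap.isClosed_range⟩

/-- **EGA II 7.3.8**, locally Noetherian case. -/
theorem isProper_of_dvr [QuasiCompact f]
    (H : ∀ (A : Type u) [CommRing A] [IsDomain A] [IsDiscreteValuationRing A]
      (x : Spec (CommRingCat.of (FractionRing A)) ⟶ X) (y : Spec (CommRingCat.of A) ⟶ Y),
      x ≫ f = genericMap A ≫ y →
        ∃! l : Spec (CommRingCat.of A) ⟶ X, l ≫ f = y ∧ genericMap A ≫ l = x) : IsProper f := by
  have : IsSeparated f := isSeparated_of_dvr f fun A _ _ _ g₁ g₂ h1 h2 ↦ by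
    obtain ⟨l, -, hl⟩ := H A (genericMap A ≫ g₁) (g₁ ≫ f) (by rw [Category.assoc])
    rw [hl g₁ ⟨rfl, rfl⟩, hl g₂ ⟨h1.symm, h2.symm⟩]
  refine IsProper.of_valuativeCriterion f (ValuativeCriterion.iff.mpr
    ⟨existence_of_dvrExistence f fun A _ _ _ x y h ↦ (H A x y h).exists, ?_⟩)
  exact IsSeparated.valuativeCriterion f

end Groth.Agent.DvrDom
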