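import Groth.Agent.DvrDom.Basic
import Mathlib.AlgebraicGeometry.ResidueField
import Mathlib.AlgebraicGeometry.ValuativeCriterion
import Mathlib.AlgebraicGeometry.Noetherian
import Mathlib.AlgebraicGeometry.Morphisms.FiniteType

/-!
# Discrete valuation rings through a specialisation on a locally Noetherian scheme
-/

universe u

open CategoryTheory AlgebraicGeometry TopologicalSpace IsLocalRing

namespace Groth.Agent.DvrDom

/-- `𝒪_{Y,y'} → 𝒪_{Y,y}` is essentially of finite type (it is a localisation). -/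
theorem essFiniteType_stalkSpecializes {Y : Scheme.{u}} {y y' : Y} (h : y ⤳ y') :
    (Y.presheaf.stalkSpecializes h).hom.EssFiniteType := by
  obtain ⟨SA, hSA, hy', -⟩ := Y.isBasis_affineOpens.exists_subset_of_mem_open
    (Set.mem_univ y') isOpen_univ
  obtain ⟨A, hA, rfl⟩ : ∃ U : Y.Opens, IsAffineOpen U ∧ (U : Set Y) = SA := hSA
  have hy : y ∈ A := h.mem_open A.2 hy'
  have := hA.isLocalization_stalk ⟨y, hy⟩
  refine RingHom.EssFiniteType.of_comp (Y.presheaf.germ A y' hy').hom ?_
  rw [← CommRingCat.hom_comp, TopCat.Presheaf.germ_stalkSpecializes]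
  let := TopCat.Presheaf.algebra_section_stalk Y.presheaf ⟨y, hy⟩
  show (algebraMap Γ(Y, A) (Y.presheaf.stalk y)).EssFiniteType
  rw [RingHom.essFiniteType_algebraMap]
  exact .of_isLocalization _ (hA.primeIdealOf ⟨y, hy⟩).asIdeal.primeCompl

/-- If `y ⤳ y'` and every element of `𝔪_{y'}` lands in `𝔪_y`, then `y' = y`. -/
theorem eq_of_stalkSpecializes_maximalIdeal {Y : Scheme.{u}} {y y' : Y} (h : y ⤳ y')
    (hm : ∀ a ∈ maximalIdeal (Y.presheaf.stalk y'),
      (Y.presheaf.stalkSpecializes h).hom a ∈ maximalIdeal (Y.presheaf.stalk y)) : y' = y := by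
  have : IsLocalHom (Y.presheaf.stalkSpecializes h).hom := by
    refine ⟨fun a ha ↦ ?_⟩
    by_contra hu
    exact (mem_maximalIdeal _).mp (hm a ((mem_maximalIdeal a).mpr hu)) ha
  have h1 := congr($(Scheme.SpecMap_stalkSpecializes_fromSpecStalk h) (closedPoint _))
  rw [Scheme.fromSpecStalk_closedPoint, Scheme.Hom.comp_apply] at h1
  have h2 : Spec.map (Y.presheaf.stalkSpecializes h) (closedPoint _) = closedPoint _ :=
    comap_closedPoint (Y.presheaf.stalkSpecializes h).hom
  rw [h2, Scheme.fromSpecStalk_closedPoint] at h1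
  exact h1

/-- The canonical map `𝒪_{Y,y'} → k(x)` for a point `x` over a generisation of `y'`. -/
noncomputable def toResidue {X Y : Scheme.{u}} (p : X ⟶ Y) (x : X) {y' : Y} (h : p x ⤳ y') :
    Y.presheaf.stalk y' ⟶ X.residueField x :=
  Y.presheaf.stalkSpecializes h ≫ p.stalkMap x ≫ X.residue x

theorem SpecMap_toResidue_fromSpecStalk {X Y : Scheme.{u}} (p : X ⟶ Y) (x : X) {y' : Y}
    (h : p x ⤳ y') :
    Spec.map (toResidue p x h) ≫ Y.fromSpecStalk y' = X.fromSpecResidueField x ≫ p := by
  rw [Scheme.fromSpecResidueField, Category.assoc, ← Scheme.SpecMap_stalkMap_fromSpecStalk,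
    ← Scheme.SpecMap_stalkSpecializes_fromSpecStalk h]
  simp_rw [← Spec.map_comp_assoc]
  rfl

/-- A discrete valuation ring of `k(x)` dominating `𝒪_{Y,y'}`, for `p x ⤳ y'`, `y' ≠ p x`. -/
theorem exists_dvr_residueField {X Y : Scheme.{u}} [IsLocallyNoetherian Y] (p : X ⟶ Y)
    [LocallyOfFiniteType p] (x : X) {y' : Y} (h : p x ⤳ y') (hne : y' ≠ p x) :
    ∃ R : ValuationSubring (X.residueField x), IsDiscreteValuationRing R ∧
      (∀ a, (toResidue p x h).hom a ∈ R) ∧
      ∀ a ∈ maximalIdeal (Y.presheaf.stalk y'), R.valuation ((toResidue p x h).hom a) < 1 := by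
  have : ∃ a ∈ maximalIdeal (Y.presheaf.stalk y'), (toResidue p x h).hom a ≠ 0 := by
    by_contra hc
    push Not at hc
    refine hne (eq_of_stalkSpecializes_maximalIdeal h fun a ha hu ↦ ?_)
    exact ((hu.map (p.stalkMap x).hom).map (X.residue x).hom).ne_zero (hc a ha)
  obtain ⟨a, ha, hane⟩ := this
  refine exists_dvr_dominating_hom _ (toResidue p x h).hom ?_ ha hane
  simp only [toResidue, CommRingCat.hom_comp]
  refine RingHom.EssFiniteType.comp (essFiniteType_stalkSpecializes h)
    (RingHom.EssFiniteType.comp (LocallyOfFiniteType.stalkMap p x) ?_)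
  exact (RingHom.FiniteType.of_surjective _ residue_surjective).essFiniteType

/-- A morphism from the spectrum of a valuation ring with prescribed closed point. -/
theorem specMap_fromSpecStalk_closedPoint {Y : Scheme.{u}} {L : Type u} [Field L]
    (R : ValuationSubring L) (y' : Y) (φ : Y.presheaf.stalk y' →+* L) (hR : ∀ a, φ a ∈ R)
    (hm : ∀ a ∈ maximalIdeal (Y.presheaf.stalk y'), R.valuation (φ a) < 1) :
    (Spec.map (CommRingCat.ofHom (φ.codRestrict R.toSubring hR)) ≫ Y.fromSpecStalk y')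
      (closedPoint R) = y' := by
  have : IsLocalRing R.toSubring := R.isLocalRing
  have : IsLocalHom (φ.codRestrict R.toSubring hR) := by
    refine ⟨fun a ha ↦ ?_⟩
    by_contra hu
    have h1 := (R.valuation_lt_one_iff ⟨φ a, hR a⟩).mpr (hm a ((mem_maximalIdeal a).mpr hu))
    exact (mem_maximalIdeal _).mp h1 ha
  rw [Scheme.Hom.comp_apply]
  have : Spec.map (CommRingCat.ofHom (φ.codRestrict R.toSubring hR)) (closedPoint R) =
      closedPoint (Y.presheaf.stalk y') := comap_closedPoint (φ.codRestrict R.toSubring hR)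
  rw [this, Y.fromSpecStalk_closedPoint]

/-- EGA II 7.1.9: a specialisation is realised by a discrete valuation ring. -/
theorem exists_dvr_through {X Y : Scheme.{u}} [IsLocallyNoetherian Y]
    (p : X ⟶ Y) [LocallyOfFiniteType p] (x : X) (y' : Y) (h : p x ⤳ y') (hne : y' ≠ p x) :
    ∃ (A : ValuationSubring (X.residueField x)) (g : Spec (CommRingCat.of A) ⟶ Y),
      IsDiscreteValuationRing A ∧ g (closedPoint A) = y' ∧
      Spec.map (CommRingCat.ofHom A.subtype) ≫ g = X.fromSpecResidueField x ≫ p := by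
  obtain ⟨R, hR, hmem, hm⟩ := exists_dvr_residueField p x h hne
  refine ⟨R, Spec.map (CommRingCat.ofHom ((toResidue p x h).hom.codRestrict R.toSubring hmem)) ≫
    Y.fromSpecStalk y', hR, specMap_fromSpecStalk_closedPoint R y' _ hmem hm, ?_⟩
  rw [← SpecMap_toResidue_fromSpecStalk p x h, ← Spec.map_comp_assoc]
  rfl

end Groth.Agent.DvrDom
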