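import Groth.Agent.DvrDom.Valuative
import Mathlib.AlgebraicGeometry.FunctionField

/-!
# Rational points of the generic fibre over a valuation ring
-/

universe u

open CategoryTheory AlgebraicGeometry IsLocalRing

namespace Groth.Agent.DvrDom

variable {P T : Scheme.{u}} (p : P ⟶ T)

theorem descResidueField_surjective_of_generic {A K : Type u} [CommRing A] [Field K] [Algebra A K]
    [IsFractionRing A K] {t : Spec (CommRingCat.of A)}
    (φ : (Spec (CommRingCat.of A)).residueField t ⟶ CommRingCat.of K)
    (hφ : Spec.map φ ≫ (Spec (CommRingCat.of A)).fromSpecResidueField t =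
      Spec.map (CommRingCat.ofHom (algebraMap A K))) : Function.Surjective φ.hom := by
  rw [← Spec.map_preimage ((Spec (CommRingCat.of A)).fromSpecResidueField t), ← Spec.map_comp] at hφ
  have h := Spec.map_injective hφ
  have ha : ∀ a, φ.hom ((Spec.preimage ((Spec (CommRingCat.of A)).fromSpecResidueField t)).hom a) =
      algebraMap A K a := fun a ↦ congr($(h).hom a)
  intro k
  obtain ⟨a, b, _, rfl⟩ := IsFractionRing.div_surjective (A := A) k
  exact ⟨_, (map_div₀ φ.hom _ _).trans (congrArg₂ (· / ·) (ha a) (ha b))⟩

theorem exists_fac_descResidueField {K : Type u} [Field K] (σ : Spec (CommRingCat.of K) ⟶ P) {x : P}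
    (hx : σ (closedPoint K) = x) :
    ∃ φ : P.residueField x ⟶ CommRingCat.of K, Spec.map φ ≫ P.fromSpecResidueField x = σ := by
  subst hx
  exact ⟨_, Scheme.descResidueField_stalkClosedPointTo_fromSpecResidueField K P σ⟩

/-- A point whose residue field is that of its image extends `K`-points of the base. -/
theorem exists_lift_of_bijective {K : Type u} [Field K] (x : P)
    (hb : Function.Bijective (p.residueFieldMap x).hom) (t : Spec (CommRingCat.of K) ⟶ T)
    (ht : t (closedPoint K) = p x) :
    ∃ σ : Spec (CommRingCat.of K) ⟶ P, σ ≫ p = t ∧ σ (closedPoint K) = x := by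
  obtain ⟨φ, hφ⟩ := exists_fac_descResidueField t ht
  have : IsIso (p.residueFieldMap x) := (ConcreteCategory.isIso_iff_bijective _).mpr hb
  refine ⟨Spec.map (inv (p.residueFieldMap x) ≫ φ) ≫ P.fromSpecResidueField x, ?_, ?_⟩
  · rw [Category.assoc, ← Scheme.Hom.SpecMap_residueFieldMap_fromSpecResidueField,
      ← Spec.map_comp_assoc, IsIso.hom_inv_id_assoc]
    exact hφ
  · rw [Scheme.Hom.comp_apply, Scheme.fromSpecResidueField_apply]

/-- Two `K`-points at a point with trivial residue extension and equal images coincide. -/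
theorem eq_of_bijective {K : Type u} [Field K] (x : P)
    (hb : Function.Bijective (p.residueFieldMap x).hom) {σ₁ σ₂ : Spec (CommRingCat.of K) ⟶ P}
    (h₁ : σ₁ (closedPoint K) = x) (h₂ : σ₂ (closedPoint K) = x) (h : σ₁ ≫ p = σ₂ ≫ p) : σ₁ = σ₂ := by
  have : IsIso (p.residueFieldMap x) := (ConcreteCategory.isIso_iff_bijective _).mpr hb
  obtain ⟨φ₁, rfl⟩ := exists_fac_descResidueField σ₁ h₁
  obtain ⟨φ₂, rfl⟩ := exists_fac_descResidueField σ₂ h₂
  rw [Category.assoc, Category.assoc, ← Scheme.Hom.SpecMap_residueFieldMap_fromSpecResidueField,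
    ← Spec.map_comp_assoc, ← Spec.map_comp_assoc, cancel_mono] at h
  rw [(cancel_epi (p.residueFieldMap x)).mp (Spec.map_injective h)]

/-- The point of a section over the generic point has trivial residue extension. -/
theorem bijective_residueFieldMap_of_section {A K : Type u} [CommRing A] [Field K] [Algebra A K]
    [IsFractionRing A K] (q : P ⟶ Spec (CommRingCat.of A)) (σ : Spec (CommRingCat.of K) ⟶ P)
    (h : σ ≫ q = Spec.map (CommRingCat.ofHom (algebraMap A K))) :
    Function.Bijective (q.residueFieldMap (σ (closedPoint K))).hom := by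
  obtain ⟨φ, hφ⟩ := exists_fac_descResidueField σ (x := σ (closedPoint K)) rfl
  refine ⟨RingHom.injective _, ?_⟩
  have hs := descResidueField_surjective_of_generic (A := A)
    (q.residueFieldMap (σ (closedPoint K)) ≫ φ) (by
      rw [Spec.map_comp, Category.assoc, Scheme.Hom.SpecMap_residueFieldMap_fromSpecResidueField,
        reassoc_of% hφ, h])
  intro z
  obtain ⟨w, hw⟩ := hs (φ.hom z)
  exact ⟨w, φ.hom.injective hw⟩

theorem genericMap_apply_eq_genericPoint (A : Type u) [CommRing A] [IsDomain A] :
    genericMap A (closedPoint (FractionRing A)) = genericPoint (Spec (CommRingCat.of A)) := by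
  rw [genericPoint_eq_bot_of_affine]
  apply PrimeSpectrum.ext
  show (maximalIdeal (FractionRing A)).comap (algebraMap A (FractionRing A)) = ⊥
  rw [IsLocalRing.maximalIdeal_eq_bot, ← RingHom.ker_eq_comap_bot]
  exact (RingHom.injective_iff_ker_eq_bot _).mp (IsFractionRing.injective A (FractionRing A))

end Groth.Agent.DvrDom
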