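import Groth.Agent.DvrDom.Valuative

/-!
# Composite valuation rings and reduction of the valuative criterion to one generic point
-/

universe u

open CategoryTheory AlgebraicGeometry IsLocalRing

namespace Groth.Agent.DvrDom

/-- Composite of a valuation ring with a valuation ring of its residue field. -/
def composite {K : Type u} [Field K] (V : ValuationSubring K)
    (V' : ValuationSubring (ResidueField V)) : ValuationSubring K where
  carrier := {x | ∃ hx : x ∈ V, residue V ⟨x, hx⟩ ∈ V'}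
  zero_mem' := ⟨V.zero_mem, (map_zero (residue V)).symm ▸ V'.zero_mem⟩
  one_mem' := ⟨V.one_mem, (map_one (residue V)).symm ▸ V'.one_mem⟩
  mul_mem' := by
    rintro x y ⟨hx, hx'⟩ ⟨hy, hy'⟩
    exact ⟨mul_mem hx hy, (map_mul (residue V) ⟨x, hx⟩ ⟨y, hy⟩).symm ▸ mul_mem hx' hy'⟩
  add_mem' := by
    rintro x y ⟨hx, hx'⟩ ⟨hy, hy'⟩
    exact ⟨add_mem hx hy, (map_add (residue V) ⟨x, hx⟩ ⟨y, hy⟩).symm ▸ add_mem hx' hy'⟩
  neg_mem' := by
    rintro x ⟨hx, hx'⟩
    exact ⟨neg_mem hx, (map_neg (residue V) ⟨x, hx⟩).symm ▸ neg_mem hx'⟩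
  mem_or_inv_mem' := by
    intro x
    rcases eq_or_ne x 0 with rfl | hx0
    · exact Or.inl ⟨V.zero_mem, (map_zero (residue V)).symm ▸ V'.zero_mem⟩
    have aux : ∀ z : K, z ≠ 0 → z ∉ V → ∃ hz : z⁻¹ ∈ V, residue V ⟨z⁻¹, hz⟩ ∈ V' := by
      intro z hz hzV
      refine ⟨(V.mem_or_inv_mem z).resolve_left hzV, ?_⟩
      convert! V'.zero_mem
      refine (residue_eq_zero_iff _).mpr fun hu ↦ hzV ?_
      obtain ⟨w, hw⟩ := isUnit_iff_exists_inv.mp hu
      have h1 : z⁻¹ * (w : K) = 1 := congrArg Subtype.val hw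
      have h2 : z = (w : K) := by
        rw [← one_mul (w : K), ← mul_inv_cancel₀ hz, mul_assoc, h1, mul_one]
      exact h2 ▸ w.2
    by_cases hx : x ∈ V
    swap
    · exact Or.inr (aux x hx0 hx)
    by_cases hxi : x⁻¹ ∈ V
    swap
    · obtain ⟨h, h'⟩ := aux x⁻¹ (inv_ne_zero hx0) hxi
      simp only [inv_inv] at h h'
      exact Or.inl ⟨h, h'⟩
    have : residue V ⟨x⁻¹, hxi⟩ = (residue V ⟨x, hx⟩)⁻¹ := by
      refine eq_inv_of_mul_eq_one_left ?_
      rw [← map_mul]
      convert! map_one (residue V)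
      exact Subtype.ext (inv_mul_cancel₀ hx0)
    rcases V'.mem_or_inv_mem (residue V ⟨x, hx⟩) with h | h
    · exact Or.inl ⟨hx, h⟩
    · exact Or.inr ⟨hxi, this ▸ h⟩

variable {K : Type u} [Field K] (V : ValuationSubring K) (V' : ValuationSubring (ResidueField V))

theorem composite_le : composite V V' ≤ V := fun _ h ↦ h.1

/-- Reduction of the composite modulo the maximal ideal of the bigger valuation ring. -/
noncomputable def compositeRes : composite V V' →+* V' :=
  ((residue V).comp ((composite V V').subtype.codRestrict V.toSubring fun x ↦ x.2.1)).codRestrict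
    V'.toSubring fun x ↦ x.2.2

theorem compositeRes_apply (x : composite V V') :
    (compositeRes V V' x : ResidueField V) = residue V ⟨x, x.2.1⟩ := rfl

theorem mem_composite_iff {x : K} (hx : x ∈ V) : x ∈ composite V V' ↔ residue V ⟨x, hx⟩ ∈ V' :=
  ⟨fun h ↦ h.2, fun h ↦ ⟨hx, h⟩⟩

theorem valuation_composite_lt_one {x : K} (hx : x ∈ V)
    (h : V'.valuation (residue V ⟨x, hx⟩) < 1) : (composite V V').valuation x < 1 := by
  have hmem : x ∈ composite V V' := ⟨hx, (V'.valuation_le_one_iff _).mp h.le⟩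
  refine ((composite V V').valuation_lt_one_iff ⟨x, hmem⟩).mp fun hu ↦ ?_
  have := (hu.map (compositeRes V V'))
  exact (mem_maximalIdeal _).mp
    ((V'.valuation_lt_one_iff (compositeRes V V' ⟨x, hmem⟩)).mpr h) this

instance : IsLocalHom (compositeRes V V') where
  map_nonunit a ha := by
    by_contra hu
    obtain ⟨b, hb⟩ := isUnit_iff_exists_inv.mp ha
    -- the inverse of `a` in `V` lies in the composite
    have hres : residue V ⟨a, a.2.1⟩ ≠ 0 := fun h0 ↦ by
      have h1 : (compositeRes V V' a : ResidueField V) = 0 := h0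
      exact (ha.map V'.subtype).ne_zero h1
    have hua : IsUnit (⟨a, a.2.1⟩ : V) := by
      by_contra hnu
      exact hres ((residue_eq_zero_iff _).mpr ((mem_maximalIdeal _).mpr hnu))
    obtain ⟨c, hc⟩ := isUnit_iff_exists_inv.mp hua
    have hc' : residue V c = (b : ResidueField V) := by
      have h1 : residue V ⟨a, a.2.1⟩ * residue V c = 1 := by rw [← map_mul, hc, map_one]
      have h2 : residue V ⟨a, a.2.1⟩ * (b : ResidueField V) = 1 := congrArg Subtype.val hb
      exact mul_left_cancel₀ hres (h1.trans h2.symm)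
    have hcmem : (c : K) ∈ composite V V' := ⟨c.2, hc'.symm ▸ b.2⟩
    exact hu (isUnit_iff_exists_inv.mpr ⟨⟨c, hcmem⟩, Subtype.ext (congrArg Subtype.val hc :)⟩)

/-- Two maps from a valuation ring with the same closed image and the same generic point agree. -/
theorem ext_of_closedPoint {Y : Scheme.{u}} {L : Type u} [Field L] (R : ValuationSubring L)
    (g₁ g₂ : Spec (CommRingCat.of R) ⟶ Y) (hc : g₁ (closedPoint R) = g₂ (closedPoint R))
    (hg : Spec.map (CommRingCat.ofHom R.subtype) ≫ g₁ = Spec.map (CommRingCat.ofHom R.subtype) ≫ g₂) :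
    g₁ = g₂ := by
  obtain ⟨y₁, σ₁, rfl, hy₁⟩ : ∃ (y : Y) (σ : Y.presheaf.stalk y ⟶ CommRingCat.of R),
      Spec.map σ ≫ Y.fromSpecStalk y = g₁ ∧ g₁ (closedPoint R) = y :=
    ⟨_, _, Scheme.Spec_stalkClosedPointTo_fromSpecStalk g₁, rfl⟩
  obtain ⟨y₂, σ₂, rfl, hy₂⟩ : ∃ (y : Y) (σ : Y.presheaf.stalk y ⟶ CommRingCat.of R),
      Spec.map σ ≫ Y.fromSpecStalk y = g₂ ∧ g₂ (closedPoint R) = y :=
    ⟨_, _, Scheme.Spec_stalkClosedPointTo_fromSpecStalk g₂, rfl⟩
  obtain rfl : y₁ = y₂ := hy₁.symm.trans (hc.trans hy₂)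
  rw [← Spec.map_comp_assoc, ← Spec.map_comp_assoc, cancel_mono] at hg
  have h1 := Spec.map_injective hg
  have h2 : σ₁ = σ₂ := by
    ext a
    exact congr($(h1).hom a)
  rw [h2]

variable {X Y : Scheme.{u}} (f : X ⟶ Y)

/-- All valuation rings of `k(x₀)` centred at `y'` lift to `X`. -/
def Lifts (x₀ : X) (y' : Y) : Prop :=
  ∀ (h : f x₀ ⤳ y') (V : ValuationSubring (X.residueField x₀))
    (hmem : ∀ a, (toResidue f x₀ h).hom a ∈ V),
    (∀ a ∈ maximalIdeal (Y.presheaf.stalk y'), V.valuation ((toResidue f x₀ h).hom a) < 1) →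
      ∃ l : Spec (CommRingCat.of V) ⟶ X, l ≫ f = centreMap V _ hmem ∧
        Spec.map (CommRingCat.ofHom V.subtype) ≫ l = X.fromSpecResidueField x₀

theorem subtype_centreMap {L : Type u} [Field L] (R : ValuationSubring L) {y' : Y}
    (φ : Y.presheaf.stalk y' →+* L) (hR : ∀ a, φ a ∈ R) :
    Spec.map (CommRingCat.ofHom R.subtype) ≫ centreMap R φ hR =
      Spec.map (CommRingCat.ofHom φ) ≫ Y.fromSpecStalk y' := by
  rw [centreMap, ← Spec.map_comp_assoc]
  rfl

theorem toResidue_trans {x₀ : X} {y' y : Y} (h : f x₀ ⤳ y') (h' : y' ⤳ y) :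
    toResidue f x₀ (h.trans h') = Y.presheaf.stalkSpecializes h' ≫ toResidue f x₀ h := by
  simp [toResidue]

/-- Liftability at `y` passes to generisations of `y`. -/
theorem Lifts.of_specializes {x₀ : X} {y' y : Y} (hy : Lifts f x₀ y) (h' : y' ⤳ y) :
    Lifts f x₀ y' := by
  intro h V hmem hm
  let φ : Y.presheaf.stalk y →+* ResidueField V :=
    (residue V).comp ((toResidue f x₀ (h.trans h')).hom.codRestrict V.toSubring fun a ↦ by
      rw [toResidue_trans f h h']; exact hmem _)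
  obtain ⟨V'', hV'', hloc⟩ := exists_factor_valuationRing φ
  let W := composite V V''
  have hmemW : ∀ a, (toResidue f x₀ (h.trans h')).hom a ∈ W := fun a ↦
    ⟨by rw [toResidue_trans f h h']; exact hmem _, hV'' a⟩
  have hmW : ∀ a ∈ maximalIdeal (Y.presheaf.stalk y),
      W.valuation ((toResidue f x₀ (h.trans h')).hom a) < 1 := by
    intro a ha
    refine valuation_composite_lt_one V V'' _ ((V''.valuation_lt_one_iff ⟨φ a, hV'' a⟩).mp ?_)
    exact fun hu ↦ (mem_maximalIdeal a).mp ha (hloc.map_nonunit a hu)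
  obtain ⟨l, hl, hl'⟩ := hy (h.trans h') W hmemW hmW
  let incl : W →+* V := W.subtype.codRestrict V.toSubring fun x ↦ x.2.1
  refine ⟨Spec.map (CommRingCat.ofHom incl) ≫ l, ?_, ?_⟩
  · rw [Category.assoc, hl, centreMap, centreMap, ← Spec.map_comp_assoc,
      ← Scheme.SpecMap_stalkSpecializes_fromSpecStalk h', ← Spec.map_comp_assoc]
    refine congrArg (fun ψ ↦ Spec.map ψ ≫ Y.fromSpecStalk y) ?_
    ext a
    exact congr($(toResidue_trans f h h').hom a)
  · rw [← Spec.map_comp_assoc, ← hl']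
    rfl

/-- `𝒪_{X,z} → k(x)` for a generisation `x` of `z`. -/
noncomputable def selfRes {X : Scheme.{u}} {x z : X} (h : x ⤳ z) :
    X.presheaf.stalk z ⟶ X.residueField x :=
  X.presheaf.stalkSpecializes h ≫ X.residue x

theorem SpecMap_selfRes {X : Scheme.{u}} {x z : X} (h : x ⤳ z) :
    Spec.map (selfRes h) ≫ X.fromSpecStalk z = X.fromSpecResidueField x := by
  rw [selfRes, Spec.map_comp, Category.assoc, Scheme.SpecMap_stalkSpecializes_fromSpecStalk]
  rfl

variable [IsSeparated f]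

/-- Liftability for a generisation `ξ` of `x₀` gives liftability for `x₀`. -/
theorem Lifts.of_generisation {ξ x₀ : X} {y' : Y} (hξ : Lifts f ξ y') (h01 : ξ ⤳ x₀) :
    Lifts f x₀ y' := by
  intro h V hmem hm
  have hξy : f ξ ⤳ y' := (h01.map f.continuous).trans h
  let φ₁ := selfRes h01
  obtain ⟨V₁, hV₁, hloc₁⟩ := exists_factor_valuationRing φ₁.hom
  let ψ₁ : X.presheaf.stalk x₀ →+* V₁ := φ₁.hom.codRestrict V₁.toSubring hV₁
  have : IsLocalHom ψ₁ := hloc₁
  let j : X.residueField x₀ →+* ResidueField V₁ := ResidueField.map ψ₁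
  obtain ⟨V', hV', hlocV⟩ := exists_factor_valuationRing (j.comp V.subtype)
  have hVV' : ∀ {z}, j z ∈ V' → z ∈ V := by
    intro z hz
    by_contra hzV
    have hzi := (V.mem_or_inv_mem z).resolve_left hzV
    have hz0 : z ≠ 0 := fun h0 ↦ hzV (h0 ▸ V.zero_mem)
    have hu : IsUnit (⟨z⁻¹, hzi⟩ : V) := by
      refine hlocV.map_nonunit _ (isUnit_iff_exists_inv.mpr ⟨⟨j z, hz⟩, Subtype.ext ?_⟩)
      show j z⁻¹ * j z = 1
      rw [← map_mul, inv_mul_cancel₀ hz0, map_one]
    obtain ⟨w, hw⟩ := isUnit_iff_exists_inv.mp hu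
    have : (w : X.residueField x₀) = z := by
      have h1 : z⁻¹ * (w : X.residueField x₀) = 1 := congrArg Subtype.val hw
      rw [← mul_one z, ← h1, ← mul_assoc, mul_inv_cancel₀ hz0, one_mul]
    exact hzV (this ▸ w.2)
  let V₂ := composite V₁ V'
  have hfact : ∀ a, (toResidue f ξ hξy).hom a =
      φ₁.hom ((Y.presheaf.stalkSpecializes h ≫ f.stalkMap x₀).hom a) := by
    intro a
    have : toResidue f ξ hξy = (Y.presheaf.stalkSpecializes h ≫ f.stalkMap x₀) ≫ φ₁ := by
      simp only [φ₁, toResidue, selfRes, Category.assoc]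
      rw [← Scheme.Hom.stalkSpecializes_stalkMap_assoc f ξ x₀ h01]
      simp
    rw [this]
    rfl
  have hmem₁ : ∀ a, (toResidue f ξ hξy).hom a ∈ V₁ := fun a ↦ hfact a ▸ hV₁ _
  have hres : ∀ a, residue V₁ ⟨_, hmem₁ a⟩ = j ((toResidue f x₀ h).hom a) := by
    intro a
    have : (⟨_, hmem₁ a⟩ : V₁) =
        ψ₁ ((Y.presheaf.stalkSpecializes h ≫ f.stalkMap x₀).hom a) := Subtype.ext (hfact a)
    rw [this]
    rfl
  have hmem₂ : ∀ a, (toResidue f ξ hξy).hom a ∈ V₂ := fun a ↦
    ⟨hmem₁ a, hres a ▸ hV' ⟨_, hmem a⟩⟩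
  have hm₂ : ∀ a ∈ maximalIdeal (Y.presheaf.stalk y'),
      V₂.valuation ((toResidue f ξ hξy).hom a) < 1 := by
    intro a ha
    refine valuation_composite_lt_one V₁ V' (hmem₁ a) ?_
    rw [hres a]
    refine (V'.valuation_lt_one_iff ⟨_, hV' ⟨_, hmem a⟩⟩).mp fun hu ↦ ?_
    exact (mem_maximalIdeal _).mp ((V.valuation_lt_one_iff ⟨_, hmem a⟩).mpr (hm a ha))
      (hlocV.map_nonunit _ hu)
  obtain ⟨l₂, hl₂, hl₂'⟩ := hξ hξy V₂ hmem₂ hm₂
  -- on `V₁` this is the tautological map through `x₀`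
  let incl : V₂ →+* V₁ := V₂.subtype.codRestrict V₁.toSubring fun x ↦ x.2.1
  let m₀ : Spec (CommRingCat.of V₁) ⟶ X := Spec.map (CommRingCat.ofHom ψ₁) ≫ X.fromSpecStalk x₀
  let m₁ : Spec (CommRingCat.of V₁) ⟶ X := Spec.map (CommRingCat.ofHom incl) ≫ l₂
  have hgen₀ : Spec.map (CommRingCat.ofHom V₁.subtype) ≫ m₀ = X.fromSpecResidueField ξ := by
    show Spec.map (CommRingCat.ofHom V₁.subtype) ≫ centreMap V₁ φ₁.hom hV₁ = _
    rw [subtype_centreMap]
    exact SpecMap_selfRes h01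
  have hgen₁ : Spec.map (CommRingCat.ofHom V₁.subtype) ≫ m₁ = X.fromSpecResidueField ξ := by
    rw [← hl₂', ← Spec.map_comp_assoc]
    rfl
  have hdown : m₁ ≫ f = m₀ ≫ f := by
    simp only [m₀, m₁, Category.assoc, hl₂, centreMap,
      ← Scheme.SpecMap_stalkMap_fromSpecStalk,
      ← Scheme.SpecMap_stalkSpecializes_fromSpecStalk h, ← Spec.map_comp_assoc]
    refine congrArg (fun ψ ↦ Spec.map ψ ≫ Y.fromSpecStalk y') ?_
    ext a
    exact hfact a
  have hm01 : m₁ = m₀ := by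
    let S : ValuativeCommSq f := ⟨V₁, X.residueField ξ, X.fromSpecResidueField ξ, m₀ ≫ f,
      ⟨by rw [← hgen₀, Category.assoc]; rfl⟩⟩
    exact congrArg CommSq.LiftStruct.l
      ((IsSeparated.valuativeCriterion f S).elim ⟨m₁, hgen₁, hdown⟩ ⟨m₀, hgen₀, rfl⟩)
  -- reduce modulo `𝔪_{V₁}`
  let l₃ : Spec (CommRingCat.of V') ⟶ X := Spec.map (CommRingCat.ofHom (compositeRes V₁ V')) ≫ l₂
  have hl₃ : Spec.map (CommRingCat.ofHom V'.subtype) ≫ l₃ =
      Spec.map (CommRingCat.ofHom j) ≫ X.fromSpecResidueField x₀ := by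
    have h1 : Spec.map (CommRingCat.ofHom V'.subtype) ≫ l₃ =
        Spec.map (CommRingCat.ofHom (residue V₁)) ≫ m₁ := by
      simp only [l₃, m₁, ← Spec.map_comp_assoc]
      rfl
    rw [h1, hm01, Scheme.fromSpecResidueField]
    simp only [m₀, ← Spec.map_comp_assoc]
    rfl
  -- descend to `V`
  let z := l₃ (closedPoint V')
  let σ := Scheme.stalkClosedPointTo l₃
  have hσ : Spec.map σ ≫ X.fromSpecStalk z = l₃ := Scheme.Spec_stalkClosedPointTo_fromSpecStalk l₃
  have hx₀z : x₀ ⤳ z := by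
    let pt : Spec (CommRingCat.of (ResidueField V₁)) := closedPoint (ResidueField V₁)
    have h1 := congr($(hl₃) pt)
    have h2 : l₃ (Spec.map (CommRingCat.ofHom V'.subtype) pt) = x₀ :=
      ((Scheme.Hom.comp_apply _ _ pt).symm.trans h1).trans
        ((Scheme.Hom.comp_apply _ _ pt).trans (Scheme.fromSpecResidueField_apply _ _))
    exact h2 ▸ ((specializes_closedPoint _).map l₃.continuous)
  have key : σ ≫ CommRingCat.ofHom V'.subtype =
      selfRes hx₀z ≫ CommRingCat.ofHom j := by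
    apply Spec.map_injective
    rw [← cancel_mono (X.fromSpecStalk z), Spec.map_comp, Category.assoc, hσ, Spec.map_comp,
      Category.assoc, hl₃]
    congr 1
    exact (SpecMap_selfRes hx₀z).symm
  have key' : ∀ a, j ((selfRes hx₀z).hom a) = (σ.hom a).1 :=
    fun a ↦ congr($(key).hom a).symm
  have hmemz : ∀ a, (selfRes hx₀z).hom a ∈ V := fun a ↦
    hVV' (key' a ▸ (σ.hom a).2)
  have hmz : ∀ a ∈ maximalIdeal (X.presheaf.stalk z),
      V.valuation ((selfRes hx₀z).hom a) < 1 := by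
    intro a ha
    refine (V.valuation_lt_one_iff ⟨_, hmemz a⟩).mp fun hu ↦ ?_
    have h1 := hu.map ((j.comp V.subtype).codRestrict V'.toSubring hV')
    have h2 : ((j.comp V.subtype).codRestrict V'.toSubring hV') ⟨_, hmemz a⟩ = σ.hom a :=
      Subtype.ext (key' a)
    rw [h2] at h1
    exact (mem_maximalIdeal a).mp ha (IsLocalHom.map_nonunit (f := σ.hom) a h1)
  let l : Spec (CommRingCat.of V) ⟶ X := centreMap V (selfRes hx₀z).hom hmemz
  have hlV : Spec.map (CommRingCat.ofHom V.subtype) ≫ l = X.fromSpecResidueField x₀ := by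
    rw [subtype_centreMap]
    exact SpecMap_selfRes hx₀z
  refine ⟨l, ext_of_closedPoint V _ _ ?_ ?_, hlV⟩
  · refine Eq.trans ?_ (specMap_fromSpecStalk_closedPoint V y' _ hmem hm).symm
    rw [Scheme.Hom.comp_apply]
    refine (congrArg f (specMap_fromSpecStalk_closedPoint V z _ hmemz hmz)).trans ?_
    have h1 : l₃ ≫ f = Spec.map (CommRingCat.ofHom (compositeRes V₁ V')) ≫ centreMap V₂ _ hmem₂ := by
      rw [Category.assoc, hl₂]
    have h2 := congr($(h1) (closedPoint V'))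
    have h3 : Spec.map (CommRingCat.ofHom (compositeRes V₁ V')) (closedPoint V') = closedPoint V₂ :=
      comap_closedPoint (compositeRes V₁ V')
    refine ((Scheme.Hom.comp_apply _ _ _).symm.trans h2).trans
      ((Scheme.Hom.comp_apply _ _ _).trans ?_)
    exact (congrArg (centreMap V₂ _ hmem₂) h3).trans
      (specMap_fromSpecStalk_closedPoint V₂ y' _ hmem₂ hm₂)
  · rw [← Category.assoc, hlV, subtype_centreMap]
    exact (SpecMap_toResidue_fromSpecStalk f x₀ h).symm

end Groth.Agent.DvrDom
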