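import Groth.Agent.DvrDom.Scheme

/-!
# The valuative criterion with discrete valuation rings over a locally Noetherian base
-/

universe u

open CategoryTheory AlgebraicGeometry TopologicalSpace IsLocalRing

namespace Groth.Agent.DvrDom

/-- `Spec R → Y` attached to a valuation ring `R` of `L` and a dominated `𝒪_{Y,y'} → L`. -/
noncomputable def centreMap {Y : Scheme.{u}} {L : Type u} [Field L] (R : ValuationSubring L) {y' : Y}
    (φ : Y.presheaf.stalk y' →+* L) (hR : ∀ a, φ a ∈ R) : Spec (CommRingCat.of R) ⟶ Y :=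
  Spec.map (CommRingCat.ofHom (φ.codRestrict R.toSubring hR)) ≫ Y.fromSpecStalk y'

theorem fromSpecResidueField_eq {X : Scheme.{u}} {U : X.Opens} (hU : IsAffineOpen U) {x : X}
    (hx : x ∈ U) : X.fromSpecResidueField x = Spec.map (X.evaluation U x hx) ≫ hU.fromSpec := by
  rw [Scheme.fromSpecResidueField, ← hU.fromSpecStalk_eq_fromSpecStalk hx]
  simp [Scheme.evaluation, IsAffineOpen.fromSpecStalk]

theorem appLE_evaluation {X Y : Scheme.{u}} (f : X ⟶ Y) {A : Y.Opens} {U : X.Opens}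
    (e : U ≤ f ⁻¹ᵁ A) {x : X} (hx : x ∈ U) {y' : Y} (hy' : y' ∈ A) (h : f x ⤳ y') :
    f.appLE A U e ≫ X.evaluation U x hx = Y.presheaf.germ A y' hy' ≫ toResidue f x h := by
  simp only [toResidue, Scheme.evaluation, TopCat.Presheaf.germ_stalkSpecializes_assoc,
    Scheme.Hom.germ_stalkMap_assoc, Scheme.Hom.appLE, Category.assoc,
    TopCat.Presheaf.germ_res_assoc]

/-- If every discrete valuation ring of `k(x₀)` centred at `y'` lifts to `X`, so does every
valuation ring of `k(x₀)` centred at `y'`. -/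
theorem exists_lift_of_dvr {X Y : Scheme.{u}} [IsLocallyNoetherian Y] (f : X ⟶ Y)
    [LocallyOfFiniteType f] [QuasiCompact f] (x₀ : X) {y' : Y} (h : f x₀ ⤳ y')
    (V : ValuationSubring (X.residueField x₀)) (hmem : ∀ a, (toResidue f x₀ h).hom a ∈ V)
    (hm : ∀ a ∈ maximalIdeal (Y.presheaf.stalk y'), V.valuation ((toResidue f x₀ h).hom a) < 1)
    (H : ∀ W : ValuationSubring (X.residueField x₀), IsDiscreteValuationRing W →
      ∀ hW : ∀ a, (toResidue f x₀ h).hom a ∈ W,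
      (∀ a ∈ maximalIdeal (Y.presheaf.stalk y'), W.valuation ((toResidue f x₀ h).hom a) < 1) →
      ∃ l : Spec (CommRingCat.of W) ⟶ X, l ≫ f = centreMap W _ hW ∧
        Spec.map (CommRingCat.ofHom W.subtype) ≫ l = X.fromSpecResidueField x₀) :
    ∃ l : Spec (CommRingCat.of V) ⟶ X, l ≫ f = centreMap V _ hmem ∧
      Spec.map (CommRingCat.ofHom V.subtype) ≫ l = X.fromSpecResidueField x₀ := by
  classical
  obtain ⟨SA, hSA, hy', -⟩ := Y.isBasis_affineOpens.exists_subset_of_mem_open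
    (Set.mem_univ y') isOpen_univ
  obtain ⟨A, hA, rfl⟩ : ∃ U : Y.Opens, IsAffineOpen U ∧ (U : Set Y) = SA := hSA
  have hx₀A : x₀ ∈ f ⁻¹ᵁ A := h.mem_open A.2 hy'
  let k := X.residueField x₀
  have hgermA : ∀ (U : X.Opens) (e : U ≤ f ⁻¹ᵁ A) (hx : x₀ ∈ U) (a : Γ(Y, A)),
      (X.evaluation U x₀ hx).hom ((f.appLE A U e).hom a) =
        (toResidue f x₀ h).hom ((Y.presheaf.germ A y' hy').hom a) := fun U e hx a ↦ by
    rw [← ConcreteCategory.comp_apply, appLE_evaluation f e hx hy' h]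
    rfl
  -- case: the coordinates of some chart lie in `V`
  by_cases hgood : ∃ (U : X.Opens) (_ : IsAffineOpen U) (_ : U ≤ f ⁻¹ᵁ A) (hx : x₀ ∈ U),
      ∀ a, (X.evaluation U x₀ hx).hom a ∈ V
  · obtain ⟨U, hU, e, hx, hall⟩ := hgood
    let φ : Γ(X, U) →+* V := (X.evaluation U x₀ hx).hom.codRestrict V.toSubring hall
    refine ⟨Spec.map (CommRingCat.ofHom φ) ≫ hU.fromSpec, ?_, ?_⟩
    · rw [Category.assoc, ← IsAffineOpen.SpecMap_appLE_fromSpec f hA hU e, ← Spec.map_comp_assoc,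
        centreMap, ← hA.fromSpecStalk_eq_fromSpecStalk hy', IsAffineOpen.fromSpecStalk,
        ← Spec.map_comp_assoc]
      congr 2
      ext a
      exact hgermA U e hx a
    · rw [← Spec.map_comp_assoc, fromSpecResidueField_eq hU hx]
      rfl
  exfalso
  push Not at hgood
  -- finitely many charts cover `f ⁻¹ A`
  have hcpt : IsCompact ((f ⁻¹ᵁ A : X.Opens) : Set X) :=
    QuasiCompact.isCompact_preimage _ A.2 hA.isCompact
  have hch : ∀ x : (f ⁻¹ᵁ A : X.Opens), ∃ U : X.Opens, IsAffineOpen U ∧ (x : X) ∈ U ∧ U ≤ f ⁻¹ᵁ A := by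
    intro x
    obtain ⟨SU, hSU, h1, h2⟩ := X.isBasis_affineOpens.exists_subset_of_mem_open x.2 (f ⁻¹ᵁ A).2
    obtain ⟨U, hU, rfl⟩ : ∃ U : X.Opens, IsAffineOpen U ∧ (U : Set X) = SU := hSU
    exact ⟨U, hU, h1, h2⟩
  choose U hU hxU hUA using hch
  obtain ⟨t, ht⟩ := hcpt.elim_finite_subcover (fun x ↦ (U x : Set X)) (fun x ↦ (U x).2)
    (fun x hx ↦ Set.mem_iUnion.mpr ⟨⟨x, hx⟩, hxU ⟨x, hx⟩⟩)
  have hft : ∀ x, (f.appLE A (U x) (hUA x)).hom.FiniteType :=
    fun x ↦ LocallyOfFiniteType.finiteType_appLE f hA (hU x) (hUA x)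
  have hnot : ∀ x (hx : x₀ ∈ U x), ∃ a, (X.evaluation (U x) x₀ hx).hom a ∉ V :=
    fun x hx ↦ hgood (U x) (hU x) (hUA x) hx
  choose a ha using hnot
  let T : Set k := {z | ∃ x ∈ t, ∃ hx : x₀ ∈ U x, z = ((X.evaluation (U x) x₀ hx).hom (a x hx))⁻¹}
  have hTfin : T.Finite := by
    refine (t.finite_toSet.biUnion (t := fun x ↦ if hx : x₀ ∈ U x then
      {((X.evaluation (U x) x₀ hx).hom (a x hx))⁻¹} else ∅) fun x _ ↦ ?_).subset ?_
    · split <;> simp
    · rintro z ⟨x, hx, hx₀, rfl⟩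
      exact Set.mem_biUnion hx (by simp [hx₀])
  have hTV : ∀ z ∈ T, z ∈ V ∧ V.valuation z < 1 ∧ z ≠ 0 := by
    rintro z ⟨x, -, hx, rfl⟩
    have h1 := ha x hx
    rw [← V.valuation_le_one_iff, not_le] at h1
    have h2 : V.valuation ((X.evaluation (U x) x₀ hx).hom (a x hx))⁻¹ < 1 := by
      rw [map_inv₀]
      exact inv_lt_one_of_one_lt₀ h1
    refine ⟨(V.valuation_le_one_iff _).mp h2.le, h2, inv_ne_zero fun h0 ↦ ?_⟩
    rw [h0, map_zero] at h1
    exact absurd h1 (not_lt.mpr zero_le)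
  have hTne : ∃ z, z ∈ T := by
    obtain ⟨x, hxt, hx⟩ : ∃ x ∈ t, x₀ ∈ U x := by simpa using ht hx₀A
    exact ⟨_, x, hxt, hx, rfl⟩
  -- the Noetherian local ring
  let alg : Algebra (Y.presheaf.stalk y') k := (toResidue f x₀ h).hom.toAlgebra
  let S : Subalgebra (Y.presheaf.stalk y') k := Algebra.adjoin _ T
  have hSV : ∀ z ∈ S, z ∈ V := by
    intro z hz
    induction hz using Algebra.adjoin_induction with
    | mem z hz => exact (hTV z hz).1
    | algebraMap r => exact hmem r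
    | add z w _ _ hz hw => exact add_mem hz hw
    | mul z w _ _ hz hw => exact mul_mem hz hw
  have : IsNoetherianRing S.toSubring :=
    isNoetherianRing_of_fg (S := S) (Subalgebra.fg_def.mpr ⟨T, hTfin, rfl⟩)
  let ι : S.toSubring →+* V := S.toSubring.subtype.codRestrict V.toSubring fun s ↦ hSV _ s.2
  let Q : Ideal S.toSubring := (maximalIdeal V).comap ι
  let C := LocalSubring.ofPrime S.toSubring Q
  have : IsNoetherianRing C.toSubring := IsLocalization.isNoetherianRing Q.primeCompl _ inferInstance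
  have hSC : S.toSubring ≤ C.toSubring := LocalSubring.le_ofPrime _ _
  have hOC : ∀ r, (toResidue f x₀ h).hom r ∈ C.toSubring := fun r ↦ hSC (S.algebraMap_mem r)
  have hCeft : C.toSubring.subtype.EssFiniteType := by
    refine RingHom.EssFiniteType.of_comp ((toResidue f x₀ h).hom.codRestrict _ hOC) ?_
    show (toResidue f x₀ h).hom.EssFiniteType
    simp only [toResidue, CommRingCat.hom_comp]
    exact RingHom.EssFiniteType.comp (essFiniteType_stalkSpecializes h)
      (RingHom.EssFiniteType.comp (LocallyOfFiniteType.stalkMap f x₀)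
        (RingHom.FiniteType.of_surjective _ residue_surjective).essFiniteType)
  have hQmem : ∀ z (hz : z ∈ S), V.valuation z < 1 →
      (⟨z, hSC hz⟩ : C.toSubring) ∈ maximalIdeal C.toSubring := fun z hz hlt ↦
    (IsLocalization.AtPrime.to_map_mem_maximal_iff C.toSubring Q ⟨z, hz⟩).mpr
      ((V.valuation_lt_one_iff ⟨z, hSV z hz⟩).mpr hlt)
  obtain ⟨z₀, hz₀⟩ := hTne
  obtain ⟨W, hW, hCW, hWm⟩ := exists_dvr_dominating_hom C.toSubring C.toSubring.subtype hCeft
    (hQmem z₀ (Algebra.subset_adjoin hz₀) (hTV z₀ hz₀).2.1) (hTV z₀ hz₀).2.2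
  obtain ⟨l, hl, hl'⟩ := H W hW (fun r ↦ hCW ⟨_, hOC r⟩)
    (fun r hr ↦ hWm _ (hQmem _ (S.algebraMap_mem r) (hm r hr)))
  -- the centre of `W` lies in some chart
  have hz : f (l (closedPoint W)) = y' := by
    rw [← Scheme.Hom.comp_apply, hl]
    exact specMap_fromSpecStalk_closedPoint W y' _ _
      fun r hr ↦ hWm _ (hQmem _ (S.algebraMap_mem r) (hm r hr))
  obtain ⟨x, hxt, hlx⟩ : ∃ x ∈ t, l (closedPoint W) ∈ U x := by
    have : l (closedPoint W) ∈ (f ⁻¹ᵁ A : X.Opens) := by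
      show f (l (closedPoint W)) ∈ A
      rw [hz]; exact hy'
    simpa using ht this
  have hrange : Set.range l ⊆ Set.range (hU x).fromSpec := by
    rw [(hU x).range_fromSpec]
    rintro _ ⟨p, rfl⟩
    exact ((specializes_closedPoint p).map l.continuous).mem_open (U x).2 hlx
  obtain ⟨φ, hφ⟩ : ∃ φ : Γ(X, U x) ⟶ CommRingCat.of W, Spec.map φ ≫ (hU x).fromSpec = l :=
    ⟨Spec.preimage (IsOpenImmersion.lift (hU x).fromSpec l hrange), by
      rw [Spec.map_preimage, IsOpenImmersion.lift_fac]⟩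
  have hx : x₀ ∈ U x := by
    have : Set.range (Spec.map (CommRingCat.ofHom W.subtype) ≫ l) ⊆ (U x : Set X) := by
      rintro _ ⟨p, rfl⟩
      rw [← (hU x).range_fromSpec]
      exact hrange ⟨_, (Scheme.Hom.comp_apply _ _ p).symm⟩
    rw [hl', X.range_fromSpecResidueField] at this
    exact this rfl
  have heval : φ ≫ CommRingCat.ofHom W.subtype = X.evaluation (U x) x₀ hx := by
    apply Spec.map_injective
    rw [← cancel_mono (hU x).fromSpec, Spec.map_comp, Category.assoc, hφ, hl',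
      fromSpecResidueField_eq (hU x) hx]
  have hzW := hWm _ (hQmem _ (Algebra.subset_adjoin ⟨x, hxt, hx, rfl⟩)
    (hTV _ ⟨x, hxt, hx, rfl⟩).2.1)
  have haW : (X.evaluation (U x) x₀ hx).hom (a x hx) ∈ W := by
    rw [← heval]; exact (φ.hom (a x hx)).2
  change W.valuation ((X.evaluation (U x) x₀ hx).hom (a x hx))⁻¹ < 1 at hzW
  rw [← W.valuation_le_one_iff] at haW
  have hane : (X.evaluation (U x) x₀ hx).hom (a x hx) ≠ 0 :=
    fun h0 ↦ ha x hx (h0 ▸ V.zero_mem)
  rw [map_inv₀] at hzW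
  exact absurd haW (not_le.mpr ((inv_lt_one₀ (zero_lt_iff.mpr
    ((Valuation.ne_zero_iff _).mpr hane))).mp hzW))

end Groth.Agent.DvrDom
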