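import Groth.Agent.DvrDom.Spread
import Mathlib.AlgebraicGeometry.FunctionField
import Mathlib.AlgebraicGeometry.Morphisms.Proper

/-!
# Properness from valuation rings of the function field
-/

universe u

open CategoryTheory AlgebraicGeometry IsLocalRing

namespace Groth.Agent.DvrDom

variable {X Y : Scheme.{u}} (f : X ⟶ Y)

theorem isProper_of_lifts [IsSeparated f] [LocallyOfFiniteType f] [QuasiCompact f]
    (H : ∀ x₀ y', Lifts f x₀ y') : IsProper f := by
  have : UniversallyClosed f := UniversallyClosed.of_valuativeCriterion f fun S ↦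
    exists_lift_square' f S fun x₀ _ h V hV hm ↦ H x₀ _ h V hV hm
  exact ⟨⟩

theorem exists_nhd_isProper_of_lifts [IsSeparated f] [LocallyOfFiniteType f] [QuasiCompact f]
    (y : Y) (H : ∀ x₀, Lifts f x₀ y) : ∃ U : Y.Opens, y ∈ U ∧ IsProper (f ∣_ U) := by
  obtain ⟨U, hyU, hU⟩ := exists_nhd_universallyClosed f y fun S hS ↦
    exists_lift_square' f S fun x₀ _ h V hV hm ↦ (H x₀).of_specializes f hS h V hV hm
  exact ⟨U, hyU, ⟨⟩⟩

theorem lifts_of_isProper_restrict {U : Y.Opens} [UniversallyClosed (f ∣_ U)] (x₀ : X) {y : Y}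
    (hy : y ∈ U) : Lifts f x₀ y := by
  intro h V hmem hm
  have hgr : Set.range (centreMap V _ hmem) ⊆ Set.range U.ι := by
    rw [Scheme.Opens.range_ι]
    refine range_subset_of_closedPoint_mem _ ?_
    exact (specMap_fromSpecStalk_closedPoint V y _ hmem hm).symm ▸ hy
  have hx : x₀ ∈ f ⁻¹ᵁ U := h.mem_open U.2 hy
  have hxr : Set.range (X.fromSpecResidueField x₀) ⊆ Set.range (f ⁻¹ᵁ U).ι := by
    rw [Scheme.Opens.range_ι, X.range_fromSpecResidueField]
    simpa using hx
  have hsq : Spec.map (CommRingCat.ofHom V.subtype) ≫ centreMap V _ hmem =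
      X.fromSpecResidueField x₀ ≫ f := by
    rw [subtype_centreMap]
    exact SpecMap_toResidue_fromSpecStalk f x₀ h
  let S : ValuativeCommSq (f ∣_ U) :=
    { R := V
      K := X.residueField x₀
      i₁ := IsOpenImmersion.lift (f ⁻¹ᵁ U).ι (X.fromSpecResidueField x₀) hxr
      i₂ := IsOpenImmersion.lift U.ι (centreMap V _ hmem) hgr
      commSq := ⟨by
        rw [← cancel_mono U.ι, Category.assoc, morphismRestrict_ι, IsOpenImmersion.lift_fac_assoc,
          Category.assoc, IsOpenImmersion.lift_fac]
        exact hsq.symm⟩ }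
  have hE : ValuativeCriterion.Existence (f ∣_ U) :=
    (show (ValuativeCriterion.Existence ⊓ @QuasiCompact : MorphismProperty Scheme.{u}) (f ∣_ U) by
      rw [← UniversallyClosed.eq_valuativeCriterion]; assumption).1
  obtain ⟨⟨l, h1, h2⟩⟩ := (hE S).exists_lift
  refine ⟨l ≫ (f ⁻¹ᵁ U).ι, ?_, ?_⟩
  · rw [Category.assoc, ← morphismRestrict_ι, ← Category.assoc, h2, IsOpenImmersion.lift_fac]
  · rw [← Category.assoc]
    exact (congrArg (· ≫ (f ⁻¹ᵁ U).ι) h1).trans (IsOpenImmersion.lift_fac _ _ _)

section Integral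

variable [IsIntegral X]

/-- `K(X) → k(ξ)`. -/
noncomputable abbrev ffRes : X.functionField →+* X.residueField (genericPoint X) :=
  (X.residue (genericPoint X)).hom

theorem ffRes_bijective : Function.Bijective (ffRes (X := X)) :=
  ⟨RingHom.injective _, residue_surjective⟩

theorem valuation_lt_one_iff' {K : Type u} [Field K] (V : ValuationSubring K) (x : K) :
    V.valuation x < 1 ↔ x = 0 ∨ x⁻¹ ∉ V := by
  rcases eq_or_ne x 0 with rfl | hx
  · simp
  rw [← V.valuation_le_one_iff, map_inv₀, not_le,
    one_lt_inv₀ (zero_lt_iff.mpr ((Valuation.ne_zero_iff _).mpr hx))]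
  simp [hx]

variable (V : ValuationSubring (X.residueField (genericPoint X)))

/-- A valuation ring of `k(ξ)` read in the function field. -/
noncomputable abbrev toFF : ValuationSubring X.functionField := V.comap ffRes

theorem valuation_toFF_lt_one (x : X.functionField) :
    (toFF V).valuation x < 1 ↔ V.valuation (ffRes x) < 1 := by
  rw [valuation_lt_one_iff', valuation_lt_one_iff', map_eq_zero_iff _ ffRes_bijective.1,
    ValuationSubring.mem_comap, map_inv₀]

theorem exists_equiv_toFF : Nonempty (toFF V ≃+* V) :=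
  ⟨RingEquiv.ofBijective ((ffRes.comp (toFF V).subtype).codRestrict V.toSubring fun x ↦ x.2)
    ⟨fun a b h ↦ Subtype.ext (ffRes_bijective.1 (congrArg Subtype.val h)),
     fun v ↦ by
      obtain ⟨x, hx⟩ := ffRes_bijective.2 v.1
      exact ⟨⟨x, show ffRes x ∈ V from hx ▸ v.2⟩, Subtype.ext hx⟩⟩⟩

theorem isDiscreteValuationRing_toFF [IsDiscreteValuationRing V] :
    IsDiscreteValuationRing (toFF V) :=
  IsDiscreteValuationRing.RingEquivClass.isDiscreteValuationRing (exists_equiv_toFF V).some.symm

theorem toResidue_generic {y : Y} (h : f (genericPoint X) ⤳ y) (a : Y.presheaf.stalk y) :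
    (toResidue f (genericPoint X) h).hom a =
      ffRes ((Y.presheaf.stalkSpecializes h ≫ f.stalkMap (genericPoint X)).hom a) := rfl

theorem selfRes_generic {x : X} (a : X.presheaf.stalk x) :
    (selfRes (genericPoint_specializes x)).hom a =
      ffRes (algebraMap (X.presheaf.stalk x) X.functionField a) := rfl

variable {V}

/-- A dominated point gives a lift. -/
theorem lift_of_dominated {y : Y} {h : f (genericPoint X) ⤳ y}
    (hmem : ∀ a, (toResidue f (genericPoint X) h).hom a ∈ V)
    (hm : ∀ a ∈ maximalIdeal (Y.presheaf.stalk y),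
      V.valuation ((toResidue f (genericPoint X) h).hom a) < 1)
    {x : X} (hxy : f x = y)
    (h1 : ∀ a : X.presheaf.stalk x, algebraMap (X.presheaf.stalk x) X.functionField a ∈ toFF V)
    (h2 : ∀ a ∈ maximalIdeal (X.presheaf.stalk x),
      (toFF V).valuation (algebraMap (X.presheaf.stalk x) X.functionField a) < 1) :
    ∃ l : Spec (CommRingCat.of V) ⟶ X, l ≫ f = centreMap V _ hmem ∧
      Spec.map (CommRingCat.ofHom V.subtype) ≫ l = X.fromSpecResidueField (genericPoint X) := by
  have hgen : ∀ {z} (hz : genericPoint X ⤳ z) (hV : ∀ a, (selfRes hz).hom a ∈ V),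
      Spec.map (CommRingCat.ofHom V.subtype) ≫ centreMap V (selfRes hz).hom hV =
        X.fromSpecResidueField (genericPoint X) := fun hz hV ↦ by
    rw [subtype_centreMap]; exact SpecMap_selfRes hz
  refine ⟨centreMap V (selfRes (genericPoint_specializes x)).hom h1, ?_, hgen _ _⟩
  refine ext_of_closedPoint V _ _ ?_ ?_
  · rw [Scheme.Hom.comp_apply]
    exact ((congrArg f (specMap_fromSpecStalk_closedPoint V x _ h1
      fun a ha ↦ (valuation_toFF_lt_one V _).mp (h2 a ha))).trans hxy).trans
        (specMap_fromSpecStalk_closedPoint V y _ hmem hm).symm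
  · rw [← Category.assoc, hgen, subtype_centreMap]
    exact (SpecMap_toResidue_fromSpecStalk f _ h).symm

/-- A lift gives a dominated point over the centre. -/
theorem dominated_of_lift {y : Y} {h : f (genericPoint X) ⤳ y}
    {hmem : ∀ a, (toResidue f (genericPoint X) h).hom a ∈ V}
    (hm : ∀ a ∈ maximalIdeal (Y.presheaf.stalk y),
      V.valuation ((toResidue f (genericPoint X) h).hom a) < 1)
    {l : Spec (CommRingCat.of V) ⟶ X} (hl : l ≫ f = centreMap V _ hmem)
    (hl' : Spec.map (CommRingCat.ofHom V.subtype) ≫ l = X.fromSpecResidueField (genericPoint X)) :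
    ∃ x : X, f x = y ∧
      (∀ a : X.presheaf.stalk x, algebraMap (X.presheaf.stalk x) X.functionField a ∈ toFF V) ∧
      ∀ a ∈ maximalIdeal (X.presheaf.stalk x),
        (toFF V).valuation (algebraMap (X.presheaf.stalk x) X.functionField a) < 1 := by
  let z := l (closedPoint V)
  let σ := Scheme.stalkClosedPointTo l
  have hz : f z = y := by
    rw [← Scheme.Hom.comp_apply, hl]
    exact specMap_fromSpecStalk_closedPoint V y _ hmem hm
  have key : σ ≫ CommRingCat.ofHom V.subtype = selfRes (genericPoint_specializes z) := by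
    apply Spec.map_injective
    rw [← cancel_mono (X.fromSpecStalk z), Spec.map_comp, Category.assoc,
      Scheme.Spec_stalkClosedPointTo_fromSpecStalk, hl', SpecMap_selfRes]
  have hmem' : ∀ a : X.presheaf.stalk z, ffRes (algebraMap _ X.functionField a) = (σ.hom a).1 :=
    fun a ↦ (congr($(key).hom a)).symm
  refine ⟨z, hz, fun a ↦ ?_, fun a ha ↦ ?_⟩
  · show ffRes _ ∈ V
    exact hmem' a ▸ (σ.hom a).2
  · rw [valuation_toFF_lt_one, hmem' a]
    refine (V.valuation_lt_one_iff _).mp fun hu ↦ ?_
    exact (mem_maximalIdeal a).mp ha (IsLocalHom.map_nonunit (f := σ.hom) a hu)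

/-- Over a separated base the dominated point automatically lies over the centre. -/
theorem apply_eq_of_dominated [Y.IsSeparated] {y : Y} {h : f (genericPoint X) ⤳ y}
    (hmem : ∀ a, (toResidue f (genericPoint X) h).hom a ∈ V)
    (hm : ∀ a ∈ maximalIdeal (Y.presheaf.stalk y),
      V.valuation ((toResidue f (genericPoint X) h).hom a) < 1) {x : X}
    (h1 : ∀ a : X.presheaf.stalk x, algebraMap (X.presheaf.stalk x) X.functionField a ∈ toFF V)
    (h2 : ∀ a ∈ maximalIdeal (X.presheaf.stalk x),
      (toFF V).valuation (algebraMap (X.presheaf.stalk x) X.functionField a) < 1) : f x = y := by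
  let l := centreMap V (selfRes (genericPoint_specializes x)).hom h1
  let S : ValuativeCommSq (Limits.terminal.from Y) :=
    { R := V
      K := X.residueField (genericPoint X)
      i₁ := X.fromSpecResidueField (genericPoint X) ≫ f
      i₂ := centreMap V _ hmem ≫ Limits.terminal.from Y
      commSq := ⟨Limits.terminal.hom_ext _ _⟩ }
  have e := congrArg CommSq.LiftStruct.l ((IsSeparated.valuativeCriterion (Limits.terminal.from Y) S).elim
    ⟨l ≫ f, by
      show Spec.map (CommRingCat.ofHom V.subtype) ≫ l ≫ f = X.fromSpecResidueField _ ≫ f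
      rw [← Category.assoc, subtype_centreMap]
      exact congrArg (· ≫ f) (SpecMap_selfRes _), Limits.terminal.hom_ext _ _⟩
    ⟨centreMap V _ hmem, by
      show Spec.map (CommRingCat.ofHom V.subtype) ≫ centreMap V _ hmem = _
      rw [subtype_centreMap]; exact SpecMap_toResidue_fromSpecStalk f _ h, Limits.terminal.hom_ext _ _⟩)
  have e' := congr($(e) (closedPoint V))
  rw [Scheme.Hom.comp_apply] at e'
  exact ((congrArg f (specMap_fromSpecStalk_closedPoint V x _ h1
    fun a ha ↦ (valuation_toFF_lt_one V _).mp (h2 a ha))).symm.trans e').trans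
      (specMap_fromSpecStalk_closedPoint V y _ hmem hm)

theorem lifts_of_generic [IsSeparated f] {y : Y} (H : Lifts f (genericPoint X) y) (x₀ : X) :
    Lifts f x₀ y :=
  H.of_generisation f (genericPoint_specializes x₀)

end Integral

end Groth.Agent.DvrDom
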